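import Cfsg.Agent.LargeExtra.TwoA.Emb
import Cfsg.Agent.LargeExtra.KOne

/-!
# The two reduction steps: an anisotropic plane, a four-space of minus type (helper71)
-/

set_option autoImplicit false
set_option linter.unusedSimpArgs false
set_option linter.unusedVariables false

namespace Cfsg.Agent.LargeExtra.TwoAChain

open Cfsg.Agent.Co2Type.Quad Cfsg.Agent.LargeExtra.Base Cfsg.Agent.LargeExtra.Local
open Cfsg.Agent.LargeExtra.KillSiegel Cfsg.Agent.LargeExtra.TwoAQuot Cfsg.Agent.LargeExtra.TwoAEmb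

universe u

/-- what the reduction gives: the perpendicular space of the `u i` belongs to another large subgroup -/
def Red {G : Type u} [Group G] {Q : Subgroup G} {z : G} (h : Large Q z) (P : h.V → Prop) : Prop :=
  ∃ (G' : Type u) (_ : Group G') (_ : Finite G') (Q' : Subgroup G') (z' : G')
      (h' : Large Q' z') (j : h'.V →ₗ[ZMod 2] h.V), Fus Q' z' ∧ RR h' ∧ Function.Injective j ∧
      (∀ x, h.q (j x) = h'.q x) ∧ (∀ x y, h.b (j x) (j y) = h'.b x y) ∧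
      (∀ y, P y ↔ ∃ x, j x = y)

section two

variable {G : Type u} [Group G] {Q : Subgroup G} {z : G}

/-- step with an element of order 3 -/
theorem red_two [Finite G] (h : Large Q z) (hF : Fus Q z) (hR : RR h) {u v : h.V}
    (qu : h.q u = 1) (qv : h.q v = 1) (buv : h.b u v = 1) :
    Red h (fun y => h.b u y = 0 ∧ h.b v y = 0) := by
  obtain ⟨c, hc⟩ := hR u v qu qv
  have hrot : KOne.Rot h (h.act c) u v := by
    refine ⟨qu, qv, buv, fun x => ?_⟩
    rw [hc, tr, tr, map_add, map_smul, buv, smul_eq_mul, mul_one]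
  have hf3 : h.act c ^ 3 = 1 := by
    ext x
    rw [pow_succ, pow_succ, pow_one]
    exact hrot.cube x
  have hfix : ∀ x, h.act c x = x ↔ h.b u x = 0 ∧ h.b v x = 0 := by
    intro x
    constructor
    · intro e
      rw [hrot.eq] at e
      have hvu : h.b v u = 1 := by rw [h.b_comm]; exact buv
      have e1 := congrArg (h.b u) e
      have e2 := congrArg (h.b v) e
      rw [map_add, map_add, map_smul, map_smul, h.b_self, buv, smul_zero, add_zero, smul_eq_mul,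
        mul_one] at e1
      rw [map_add, map_add, map_smul, map_smul, h.b_self, hvu, smul_zero, add_zero, smul_eq_mul,
        mul_one] at e2
      have e1' : h.b v x = 0 := by simpa using e1
      rw [e1'] at e2
      refine ⟨?_, e1'⟩
      simpa using e2
    · rintro ⟨h1, h2⟩
      exact hrot.fw h1 h2
  obtain ⟨G', i1, i2, Q', z', h', j, h1, h2, h3, h4, h5, h6⟩ :=
    exists_quot h hF hR c (Or.inl rfl) hf3 (by
      intro g hq hg hw
      obtain ⟨i, hi⟩ := hrot.eq_pow (g := g) (fun x y => KillSiegel.isom_b h hq x y) hg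
        (fun w h1 h2 => hw w ((hfix w).2 ⟨h1, h2⟩))
      exact ⟨i, by ext x; exact hi x⟩)
  exact ⟨G', i1, i2, Q', z', h', j, h1, h2, h3, h4, h5, fun y => by rw [← h6, hfix]⟩

end two

/-! ### four reflections -/

/-- an `A_4`-chain of nonsingular vectors -/
structure Chain {G : Type*} [Group G] {Q : Subgroup G} {z : G} (h : Large Q z)
    (u1 u2 u3 u4 : h.V) : Prop where
  q1 : h.q u1 = 1
  q2 : h.q u2 = 1
  q3 : h.q u3 = 1
  q4 : h.q u4 = 1
  b12 : h.b u1 u2 = 1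
  b23 : h.b u2 u3 = 1
  b34 : h.b u3 u4 = 1
  b13 : h.b u1 u3 = 0
  b14 : h.b u1 u4 = 0
  b24 : h.b u2 u4 = 0

namespace Chain

variable {G : Type*} [Group G] {Q : Subgroup G} {z : G} {h : Large Q z} {u1 u2 u3 u4 : h.V}

theorem b21 (s : Chain h u1 u2 u3 u4) : h.b u2 u1 = 1 := by rw [h.b_comm]; exact s.b12
theorem b32 (s : Chain h u1 u2 u3 u4) : h.b u3 u2 = 1 := by rw [h.b_comm]; exact s.b23
theorem b43 (s : Chain h u1 u2 u3 u4) : h.b u4 u3 = 1 := by rw [h.b_comm]; exact s.b34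
theorem b31 (s : Chain h u1 u2 u3 u4) : h.b u3 u1 = 0 := by rw [h.b_comm]; exact s.b13
theorem b41 (s : Chain h u1 u2 u3 u4) : h.b u4 u1 = 0 := by rw [h.b_comm]; exact s.b14
theorem b42 (s : Chain h u1 u2 u3 u4) : h.b u4 u2 = 0 := by rw [h.b_comm]; exact s.b24

/-- the Coxeter element -/
noncomputable def f (h : Large Q z) (u1 u2 u3 u4 x : h.V) : h.V :=
  tr h u1 (tr h u2 (tr h u3 (tr h u4 x)))

theorem add3 (h : Large Q z) (a b : h.V) : a + (a + b) = b := by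
  rw [← add_assoc, h.add_self, zero_add]

theorem fu1 (s : Chain h u1 u2 u3 u4) : f h u1 u2 u3 u4 u1 = u2 := by
  simp only [f, tr, s.b41, s.b31, s.b21, s.b12, map_add, map_smul, h.b_self, zero_smul, one_smul,
    add_zero, zero_add]
  rw [add_comm u1 u2, add_assoc, h.add_self, add_zero]

theorem fu2 (s : Chain h u1 u2 u3 u4) : f h u1 u2 u3 u4 u2 = u3 := by
  simp only [f, tr, s.b42, s.b32, s.b23, s.b13, s.b12, map_add, map_smul, h.b_self, zero_smul,
    one_smul, add_zero, zero_add, smul_zero, smul_eq_mul, mul_one]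
  rw [add_comm (u2 + u3) u2, add3]
  rw [show (1 : ZMod 2) + 1 = 0 from rfl, zero_smul, add_zero]

theorem fu3 (s : Chain h u1 u2 u3 u4) : f h u1 u2 u3 u4 u3 = u4 := by
  simp only [f, tr, s.b43, s.b34, s.b23, s.b24, s.b13, s.b14, s.b12, map_add, map_smul, h.b_self,
    zero_smul, one_smul, add_zero, zero_add, smul_zero, smul_eq_mul, mul_one]
  rw [show (1 : ZMod 2) + 1 = 0 from rfl, zero_smul, add_zero, add_comm (u3 + u4) u3, add3]
  rw [zero_smul, add_zero]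

theorem fu4 (s : Chain h u1 u2 u3 u4) : f h u1 u2 u3 u4 u4 = u1 + u2 + u3 + u4 := by
  simp only [f, tr, s.b34, s.b23, s.b24, s.b13, s.b14, s.b12, map_add, map_smul, h.b_self,
    zero_smul, one_smul, add_zero, zero_add, smul_zero, smul_eq_mul, mul_one]
  abel

theorem fw (s : Chain h u1 u2 u3 u4) {w : h.V} (h1 : h.b u1 w = 0) (h2 : h.b u2 w = 0)
    (h3 : h.b u3 w = 0) (h4 : h.b u4 w = 0) : f h u1 u2 u3 u4 w = w := by
  simp only [f, tr, h1, h2, h3, h4, zero_smul, add_zero]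

/-- decomposition -/
theorem dec (s : Chain h u1 u2 u3 u4) (x : h.V) : ∃ w, (h.b u1 w = 0 ∧ h.b u2 w = 0 ∧
    h.b u3 w = 0 ∧ h.b u4 w = 0) ∧ ∃ a1 a2 a3 a4 : ZMod 2,
      x = w + (a1 • u1 + a2 • u2 + a3 • u3 + a4 • u4) := by
  set a1 := h.b u2 x + h.b u4 x with ha1
  set a2 := h.b u1 x with ha2
  set a3 := h.b u4 x with ha3
  set a4 := h.b u1 x + h.b u3 x with ha4
  refine ⟨x + (a1 • u1 + a2 • u2 + a3 • u3 + a4 • u4), ⟨?_, ?_, ?_, ?_⟩, a1, a2, a3, a4, ?_⟩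
  · simp only [map_add, map_smul, h.b_self, s.b12, s.b13, s.b14, smul_eq_mul, mul_zero, mul_one,
      add_zero, zero_add]
    rw [ha2]
    exact CharTwo.add_self_eq_zero _
  · simp only [map_add, map_smul, h.b_self, s.b21, s.b23, s.b24, smul_eq_mul, mul_zero, mul_one,
      add_zero, zero_add]
    rw [ha1, ha3]
    generalize h.b u2 x = p
    generalize h.b u4 x = q
    revert p q
    decide
  · simp only [map_add, map_smul, h.b_self, s.b31, s.b32, s.b34, smul_eq_mul, mul_zero, mul_one,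
      add_zero, zero_add]
    rw [ha2, ha4]
    generalize h.b u1 x = p
    generalize h.b u3 x = q
    revert p q
    decide
  · simp only [map_add, map_smul, h.b_self, s.b41, s.b42, s.b43, smul_eq_mul, mul_zero, mul_one,
      add_zero, zero_add]
    rw [ha3]
    exact CharTwo.add_self_eq_zero _
  · rw [add_assoc, h.add_self, add_zero]

/-- a bundled form of the coordinates -/
noncomputable def vec (h : Large Q z) (u1 u2 u3 u4 : h.V) (a1 a2 a3 a4 : ZMod 2) : h.V :=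
  a1 • u1 + a2 • u2 + a3 • u3 + a4 • u4

theorem b1 (s : Chain h u1 u2 u3 u4) (a1 a2 a3 a4 : ZMod 2) :
    h.b u1 (vec h u1 u2 u3 u4 a1 a2 a3 a4) = a2 := by
  simp only [vec, map_add, map_smul, h.b_self, s.b12, s.b13, s.b14, smul_eq_mul, mul_zero, mul_one,
      add_zero, zero_add]

theorem b2 (s : Chain h u1 u2 u3 u4) (a1 a2 a3 a4 : ZMod 2) :
    h.b u2 (vec h u1 u2 u3 u4 a1 a2 a3 a4) = a1 + a3 := by
  simp only [vec, map_add, map_smul, h.b_self, s.b21, s.b23, s.b24, smul_eq_mul, mul_zero, mul_one,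
      add_zero, zero_add]

theorem b3 (s : Chain h u1 u2 u3 u4) (a1 a2 a3 a4 : ZMod 2) :
    h.b u3 (vec h u1 u2 u3 u4 a1 a2 a3 a4) = a2 + a4 := by
  simp only [vec, map_add, map_smul, h.b_self, s.b31, s.b32, s.b34, smul_eq_mul, mul_zero, mul_one,
      add_zero, zero_add]

theorem b4 (s : Chain h u1 u2 u3 u4) (a1 a2 a3 a4 : ZMod 2) :
    h.b u4 (vec h u1 u2 u3 u4 a1 a2 a3 a4) = a3 := by
  simp only [vec, map_add, map_smul, h.b_self, s.b41, s.b42, s.b43, smul_eq_mul, mul_zero, mul_one,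
      add_zero, zero_add]

theorem q_smul (h : Large Q z) (a : ZMod 2) (x : h.V) : h.q (a • x) = a * h.q x := by
  rcases zmod2 a with rfl | rfl
  · rw [zero_smul, h.q_zero, zero_mul]
  · rw [one_smul, one_mul]

theorem q_vec (s : Chain h u1 u2 u3 u4) (a1 a2 a3 a4 : ZMod 2) :
    h.q (vec h u1 u2 u3 u4 a1 a2 a3 a4) = a1 + a2 + a3 + a4 + a1 * a2 + a2 * a3 + a3 * a4 := by
  simp only [vec, h.q_add', q_smul, s.q1, s.q2, s.q3, s.q4, map_add, map_smul, LinearMap.add_apply,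
    LinearMap.smul_apply, smul_eq_mul, s.b12, s.b13, s.b14, s.b23, s.b24, s.b34, mul_one, mul_zero,
    add_zero, zero_add]
  revert a1 a2 a3 a4
  decide

/-- the map with coordinates -/
theorem f_vec {c : h.V ≃ₗ[ZMod 2] h.V} (s : Chain h u1 u2 u3 u4)
    (hc : ∀ x, c x = f h u1 u2 u3 u4 x) (a1 a2 a3 a4 : ZMod 2) :
    c (vec h u1 u2 u3 u4 a1 a2 a3 a4) = vec h u1 u2 u3 u4 a4 (a1 + a4) (a2 + a4) (a3 + a4) := by
  have e1 : c u1 = u2 := by rw [hc]; exact s.fu1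
  have e2 : c u2 = u3 := by rw [hc]; exact s.fu2
  have e3 : c u3 = u4 := by rw [hc]; exact s.fu3
  have e4 : c u4 = u1 + u2 + u3 + u4 := by rw [hc]; exact s.fu4
  rw [vec, vec, map_add, map_add, map_add, map_smul, map_smul, map_smul, map_smul, e1, e2, e3, e4]
  simp only [smul_add, add_smul]
  abel

theorem c_perp {c : h.V ≃ₗ[ZMod 2] h.V} (s : Chain h u1 u2 u3 u4)
    (hc : ∀ x, c x = f h u1 u2 u3 u4 x) {w : h.V} (h1 : h.b u1 w = 0) (h2 : h.b u2 w = 0)
    (h3 : h.b u3 w = 0) (h4 : h.b u4 w = 0) : c w = w := by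
  rw [hc]; exact s.fw h1 h2 h3 h4

/-- the fixed vectors -/
theorem fix_iff {c : h.V ≃ₗ[ZMod 2] h.V} (s : Chain h u1 u2 u3 u4)
    (hc : ∀ x, c x = f h u1 u2 u3 u4 x) (x : h.V) :
    c x = x ↔ (h.b u1 x = 0 ∧ h.b u2 x = 0 ∧ h.b u3 x = 0 ∧ h.b u4 x = 0) := by
  constructor
  · intro e
    obtain ⟨w, ⟨h1, h2, h3, h4⟩, a1, a2, a3, a4, rfl⟩ := s.dec x
    change c (w + vec h u1 u2 u3 u4 a1 a2 a3 a4) = w + vec h u1 u2 u3 u4 a1 a2 a3 a4 at e
    rw [map_add, s.c_perp hc h1 h2 h3 h4, s.f_vec hc] at e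
    have e' := add_left_cancel e
    have i1 := congrArg (h.b u1) e'
    have i2 := congrArg (h.b u2) e'
    have i3 := congrArg (h.b u3) e'
    have i4 := congrArg (h.b u4) e'
    rw [s.b1, s.b1] at i1
    rw [s.b2, s.b2] at i2
    rw [s.b3, s.b3] at i3
    rw [s.b4, s.b4] at i4
    have key : ∀ a1 a2 a3 a4 : ZMod 2, a1 + a4 = a2 → a4 + (a2 + a4) = a1 + a3 →
        a1 + a4 + (a3 + a4) = a2 + a4 → a2 + a4 = a3 → a1 = 0 ∧ a2 = 0 ∧ a3 = 0 ∧ a4 = 0 := by
      decide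
    obtain ⟨rfl, rfl, rfl, rfl⟩ := key a1 a2 a3 a4 i1 i2 i3 i4
    simp only [zero_smul, add_zero]
    exact ⟨h1, h2, h3, h4⟩
  · rintro ⟨h1, h2, h3, h4⟩
    exact s.c_perp hc h1 h2 h3 h4

theorem vec_one (h : Large Q z) (u1 u2 u3 u4 : h.V) : vec h u1 u2 u3 u4 1 0 0 0 = u1 := by
  simp only [vec, one_smul, zero_smul, add_zero]

theorem pow_five {c : h.V ≃ₗ[ZMod 2] h.V} (s : Chain h u1 u2 u3 u4)
    (hc : ∀ x, c x = f h u1 u2 u3 u4 x) : c ^ 5 = 1 := by
  ext x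
  obtain ⟨w, ⟨h1, h2, h3, h4⟩, a1, a2, a3, a4, rfl⟩ := s.dec x
  change (c ^ 5) (w + vec h u1 u2 u3 u4 a1 a2 a3 a4) = w + vec h u1 u2 u3 u4 a1 a2 a3 a4
  have e : ∀ y, (c ^ 5) y = c (c (c (c (c y)))) := fun y => rfl
  have hw := s.c_perp hc h1 h2 h3 h4
  rw [map_add, e, e, hw, hw, hw, hw, hw, s.f_vec hc, s.f_vec hc, s.f_vec hc, s.f_vec hc, s.f_vec hc]
  have key : ∀ a1 a2 a3 a4 : ZMod 2,
      (a1 + a4 + (a2 + a4 + (a3 + a4)) + (a4 + (a3 + a4)) = a1 + a4 + (a2 + a4 + (a3 + a4)) + (a4 + (a3 + a4))) := by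
    intros; rfl
  congr 1
  congr 1 <;> · revert a1 a2 a3 a4; decide

/-- the isometries that commute with `c` and are trivial on the perpendicular space -/
theorem eq_pow [Finite G] {c : h.V ≃ₗ[ZMod 2] h.V} (s : Chain h u1 u2 u3 u4)
    (hc : ∀ x, c x = f h u1 u2 u3 u4 x) {g : h.V ≃ₗ[ZMod 2] h.V}
    (hq : ∀ x, h.q (g x) = h.q x) (hg : ∀ x, g (c x) = c (g x))
    (hw : ∀ w, h.b u1 w = 0 → h.b u2 w = 0 → h.b u3 w = 0 → h.b u4 w = 0 → g w = w) :
    ∃ i : ℕ, g = c ^ i := by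
  have hb : ∀ x y, h.b (g x) (g y) = h.b x y := fun x y => KillSiegel.isom_b h hq x y
  have e1 : c u1 = u2 := by rw [hc]; exact s.fu1
  have e2 : c u2 = u3 := by rw [hc]; exact s.fu2
  have e3 : c u3 = u4 := by rw [hc]; exact s.fu3
  -- it suffices that `g u1 = c ^ i u1`
  have key : ∀ i : ℕ, g u1 = (c ^ i) u1 → g = c ^ i := by
    intro i hi
    have hcomm : ∀ x, (c ^ i) (c x) = c ((c ^ i) x) := by
      intro x
      show (c ^ i * c) x = (c * c ^ i) x
      rw [← pow_succ, ← pow_succ']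
    have i2 : g u2 = (c ^ i) u2 := by rw [← e1, hg, hi, hcomm]
    have i3 : g u3 = (c ^ i) u3 := by rw [← e2, hg, i2, hcomm]
    have i4 : g u4 = (c ^ i) u4 := by rw [← e3, hg, i3, hcomm]
    have hwi : ∀ (i : ℕ) (w : h.V), c w = w → (c ^ i) w = w := by
      intro i w hcw
      induction i with
      | zero => rfl
      | succ n ih =>
        rw [pow_succ]
        show (c ^ n) (c w) = w
        rw [hcw, ih]
    ext x
    obtain ⟨w, ⟨h1, h2, h3, h4⟩, a1, a2, a3, a4, rfl⟩ := s.dec x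
    simp only [map_add, map_smul, hi, i2, i3, i4, hw w h1 h2 h3 h4,
      hwi i w (s.c_perp hc h1 h2 h3 h4)]
  -- `g u1` lies in the span
  obtain ⟨w, ⟨h1, h2, h3, h4⟩, a1, a2, a3, a4, he⟩ := s.dec (g u1)
  change g u1 = w + vec h u1 u2 u3 u4 a1 a2 a3 a4 at he
  have hw0 : w = 0 := by
    apply h.b_nondeg
    intro x
    obtain ⟨w', ⟨h1', h2', h3', h4'⟩, c1, c2, c3, c4, rfl⟩ := s.dec x
    have f1 : h.b w u1 = 0 := by rw [h.b_comm]; exact h1
    have f2 : h.b w u2 = 0 := by rw [h.b_comm]; exact h2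
    have f3 : h.b w u3 = 0 := by rw [h.b_comm]; exact h3
    have f4 : h.b w u4 = 0 := by rw [h.b_comm]; exact h4
    have f5 : h.b (g u1) w' = 0 := by
      have := hb u1 w'
      rw [hw w' h1' h2' h3' h4', h1'] at this
      exact this
    have f6 : h.b (vec h u1 u2 u3 u4 a1 a2 a3 a4) w' = 0 := by
      simp only [vec, map_add, map_smul, LinearMap.add_apply, LinearMap.smul_apply, h1', h2', h3',
        h4', smul_zero, add_zero]
    have f7 : h.b w w' = 0 := by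
      rw [he, map_add, LinearMap.add_apply, f6, add_zero] at f5
      exact f5
    simp only [map_add, map_smul, f1, f2, f3, f4, f7, smul_zero, add_zero]
  rw [hw0, zero_add] at he
  have k1 : h.q (vec h u1 u2 u3 u4 a1 a2 a3 a4) = 1 := by rw [← he, hq, s.q1]
  have k2 : h.b (vec h u1 u2 u3 u4 a1 a2 a3 a4) (c (vec h u1 u2 u3 u4 a1 a2 a3 a4)) = 1 := by
    rw [← he, ← hg, hb, e1, s.b12]
  rw [s.q_vec] at k1
  rw [s.f_vec hc] at k2
  have k3 : h.b (vec h u1 u2 u3 u4 a1 a2 a3 a4)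
      (vec h u1 u2 u3 u4 a4 (a1 + a4) (a2 + a4) (a3 + a4)) =
      a1 * (a1 + a4) + a2 * (a4 + (a2 + a4)) + a3 * (a1 + a4 + (a3 + a4)) + a4 * (a2 + a4) := by
    conv_lhs =>
      enter [1, 2]
      rw [vec]
    rw [map_add, map_add, map_add, map_smul, map_smul, map_smul, map_smul]
    simp only [LinearMap.add_apply, LinearMap.smul_apply, smul_eq_mul]
    rw [s.b1, s.b2, s.b3, s.b4]
  rw [k3] at k2
  have key2 : ∀ a1 a2 a3 a4 : ZMod 2,
      a1 + a2 + a3 + a4 + a1 * a2 + a2 * a3 + a3 * a4 = 1 →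
      a1 * (a1 + a4) + a2 * (a4 + (a2 + a4)) + a3 * (a1 + a4 + (a3 + a4)) + a4 * (a2 + a4) = 1 →
      (a1 = 1 ∧ a2 = 0 ∧ a3 = 0 ∧ a4 = 0) ∨ (a1 = 0 ∧ a2 = 1 ∧ a3 = 0 ∧ a4 = 0) ∨
      (a1 = 0 ∧ a2 = 0 ∧ a3 = 1 ∧ a4 = 0) ∨ (a1 = 0 ∧ a2 = 0 ∧ a3 = 0 ∧ a4 = 1) ∨
      (a1 = 1 ∧ a2 = 1 ∧ a3 = 1 ∧ a4 = 1) := by decide
  have hu2 : (c ^ 1) u1 = u2 := by rw [pow_one]; exact e1
  have hu3 : (c ^ 2) u1 = u3 := by
    show c (c u1) = u3
    rw [e1, e2]
  have hu4 : (c ^ 3) u1 = u4 := by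
    show c (c (c u1)) = u4
    rw [e1, e2, e3]
  have e4 : c u4 = u1 + u2 + u3 + u4 := by rw [hc]; exact s.fu4
  have hu5 : (c ^ 4) u1 = u1 + u2 + u3 + u4 := by
    show c (c (c (c u1))) = u1 + u2 + u3 + u4
    rw [e1, e2, e3, e4]
  rcases key2 a1 a2 a3 a4 k1 k2 with h0 | h0 | h0 | h0 | h0 <;>
    obtain ⟨rfl, rfl, rfl, rfl⟩ := h0 <;>
    simp only [vec, one_smul, zero_smul, add_zero, zero_add] at he
  · exact ⟨0, key 0 (by rw [pow_zero]; exact he)⟩
  · exact ⟨1, key 1 (by rw [hu2]; exact he)⟩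
  · exact ⟨2, key 2 (by rw [hu3]; exact he)⟩
  · exact ⟨3, key 3 (by rw [hu4]; exact he)⟩
  · exact ⟨4, key 4 (by rw [hu5]; exact he)⟩

end Chain

/-- step with an element of order 5 -/
theorem red_four {G : Type u} [Group G] [Finite G] {Q : Subgroup G} {z : G} (h : Large Q z)
    (hF : Fus Q z) (hR : RR h) {u1 u2 u3 u4 : h.V} (s : Chain h u1 u2 u3 u4) :
    Red h (fun y => h.b u1 y = 0 ∧ h.b u2 y = 0 ∧ h.b u3 y = 0 ∧ h.b u4 y = 0) := by
  obtain ⟨c1, hc1⟩ := hR u1 u2 s.q1 s.q2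
  obtain ⟨c2, hc2⟩ := hR u3 u4 s.q3 s.q4
  have hc : ∀ x, h.act (c1 * c2) x = Chain.f h u1 u2 u3 u4 x := by
    intro x
    rw [map_mul]
    show h.act c1 (h.act c2 x) = _
    rw [hc1, hc2]
    rfl
  obtain ⟨G', i1, i2, Q', z', h', j, h1, h2, h3, h4, h5, h6⟩ :=
    exists_quot h hF hR (c1 * c2) (Or.inr rfl) (s.pow_five hc) (by
      intro g hq hg hw
      exact s.eq_pow hc hq hg (fun w h1 h2 h3 h4 => hw w ((s.fix_iff hc w).2 ⟨h1, h2, h3, h4⟩)))
  exact ⟨G', i1, i2, Q', z', h', j, h1, h2, h3, h4, h5, fun y => by rw [← h6, s.fix_iff hc]⟩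

/-! ### cardinalities -/

/-- a dual system -/
theorem card_of_dual {G : Type*} [Group G] [Finite G] {Q : Subgroup G} {z : G} {h : Large Q z}
    {G' : Type*} [Group G'] [Finite G'] {Q' : Subgroup G'} {z' : G'} {h' : Large Q' z'}
    (j : h'.V →ₗ[ZMod 2] h.V) (hj : Function.Injective j) {k : ℕ} (u w : Fin k → h.V)
    (hd : ∀ i l, h.b (u i) (w l) = if i = l then 1 else 0)
    (hP : ∀ y, (∀ i, h.b (u i) y = 0) ↔ ∃ x, j x = y) :
    Nat.card h.V = Nat.card h'.V * 2 ^ k := by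
  have e : Nat.card (h'.V × (Fin k → ZMod 2)) = Nat.card h'.V * 2 ^ k := by
    rw [Nat.card_prod, Nat.card_fun, Nat.card_zmod, Nat.card_eq_fintype_card (α := Fin k),
      Fintype.card_fin]
  rw [← e]
  symm
  have hbs : ∀ (a : Fin k → ZMod 2) (i : Fin k), h.b (u i) (∑ l, a l • w l) = a i := by
    intro a i
    rw [map_sum]
    simp only [map_smul, hd, smul_eq_mul, mul_ite, mul_one, mul_zero]
    rw [Finset.sum_ite_eq Finset.univ i]
    simp
  refine Nat.card_eq_of_bijective (fun c : h'.V × (Fin k → ZMod 2) => j c.1 + ∑ l, c.2 l • w l)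
    ⟨?_, ?_⟩
  · rintro ⟨x, a⟩ ⟨x', a'⟩ hxx
    have hxx' : j x + ∑ l, a l • w l = j x' + ∑ l, a' l • w l := hxx
    have ha : a = a' := by
      funext i
      have h1 := congrArg (h.b (u i)) hxx'
      rw [map_add, map_add, hbs, hbs, (hP (j x)).2 ⟨x, rfl⟩ i, (hP (j x')).2 ⟨x', rfl⟩ i, zero_add,
        zero_add] at h1
      exact h1
    subst ha
    rw [hj (add_right_cancel hxx')]
  · intro y
    obtain ⟨x, hx⟩ := (hP (y + ∑ l, h.b (u l) y • w l)).1 (by
      intro i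
      rw [map_add, hbs]
      exact CharTwo.add_self_eq_zero _)
    refine ⟨(x, fun l => h.b (u l) y), ?_⟩
    show j x + ∑ l, h.b (u l) y • w l = y
    rw [hx, add_assoc, h.add_self, add_zero]

theorem card_two {G : Type*} [Group G] [Finite G] {Q : Subgroup G} {z : G} {h : Large Q z}
    {G' : Type*} [Group G'] [Finite G'] {Q' : Subgroup G'} {z' : G'} {h' : Large Q' z'}
    (j : h'.V →ₗ[ZMod 2] h.V) (hj : Function.Injective j) {u v : h.V} (buv : h.b u v = 1)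
    (hP : ∀ y, (h.b u y = 0 ∧ h.b v y = 0) ↔ ∃ x, j x = y) :
    Nat.card h.V = Nat.card h'.V * 4 := by
  have hvu : h.b v u = 1 := by rw [h.b_comm]; exact buv
  apply card_of_dual j hj (k := 2) ![u, v] ![v, u]
  · intro i l
    fin_cases i <;> fin_cases l <;> simp [buv, hvu, h.b_self]
  · intro y
    rw [← hP, Fin.forall_fin_two]
    rfl

theorem card_four {G : Type*} [Group G] [Finite G] {Q : Subgroup G} {z : G} {h : Large Q z}
    {G' : Type*} [Group G'] [Finite G'] {Q' : Subgroup G'} {z' : G'} {h' : Large Q' z'}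
    (j : h'.V →ₗ[ZMod 2] h.V) (hj : Function.Injective j) {u1 u2 u3 u4 : h.V}
    (s : Chain h u1 u2 u3 u4)
    (hP : ∀ y, (h.b u1 y = 0 ∧ h.b u2 y = 0 ∧ h.b u3 y = 0 ∧ h.b u4 y = 0) ↔ ∃ x, j x = y) :
    Nat.card h.V = Nat.card h'.V * 16 := by
  have := card_of_dual j hj (k := 4) ![u1, u2, u3, u4] ![u2 + u4, u1, u4, u1 + u3] (by
    intro i l
    fin_cases i <;> fin_cases l <;> simp [h.b_self, s.b12, s.b13, s.b14, s.b21, s.b23, s.b24,
      s.b31, s.b32, s.b34, s.b41, s.b42, s.b43] <;> decide) (by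
    intro y
    rw [← hP]
    constructor
    · intro hy
      exact ⟨hy 0, hy 1, hy 2, hy 3⟩
    · rintro ⟨h1, h2, h3, h4⟩ i
      fin_cases i
      · exact h1
      · exact h2
      · exact h3
      · exact h4)
  rw [this]
  norm_num

end Cfsg.Agent.LargeExtra.TwoAChain
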