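import Cfsg.Agent.LargeExtra.TwoA.Quot

/-!
# The quadratic space of `C_G(ρ) / ⟨ρ⟩` is the space of the fixed vectors of `ρ` (helper71)
-/

set_option autoImplicit false

namespace Cfsg.Agent.LargeExtra.TwoAEmb

open Cfsg.Agent.Co2Type.Quad Cfsg.Agent.LargeExtra.Base Cfsg.Agent.LargeExtra.Local
open Cfsg.Agent.LargeExtra.KillSiegel Cfsg.Agent.LargeExtra.TwoAQuot

section emb

variable {G : Type*} [Group G] {Q : Subgroup G} {z ρ : G} {m : ℕ}

/-- an element of `C_Q(ρ)` with given image -/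
noncomputable def pick (x : QB Q ρ) : Subgroup.centralizer ({ρ} : Set G) :=
  Classical.choose (mem_QB.1 x.2)

theorem pick_mem (x : QB Q ρ) : ((pick x : Subgroup.centralizer ({ρ} : Set G)) : G) ∈ Q :=
  (Classical.choose_spec (mem_QB.1 x.2)).1

theorem mk_pick (x : QB Q ρ) : mk ρ (pick x) = x := (Classical.choose_spec (mem_QB.1 x.2)).2

/-- an element of `QB` from an element of `C_Q(ρ)` -/
def im1 (k : Subgroup.centralizer ({ρ} : Set G)) (hk : (k : G) ∈ Q) : QB Q ρ :=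
  ⟨mk ρ k, mem_QB.2 ⟨k, hk, rfl⟩⟩

theorem exists_im1 (x : QB Q ρ) : ∃ (k : Subgroup.centralizer ({ρ} : Set G)) (hk : (k : G) ∈ Q),
    im1 k hk = x := ⟨pick x, pick_mem x, Subtype.ext (mk_pick x)⟩

/-- the embedding of the spaces, as a function -/
noncomputable def emb0 (h : Large Q z) (hρz : ρ * z = z * ρ)
    (hL : Large (QB Q ρ) (mk ρ (zK hρz))) (v : hL.V) : h.V :=
  h.pr ⟨pick (Function.surjInv hL.pr_surjective v), pick_mem _⟩

theorem emb0_pr (h : Large Q z) (hρz : ρ * z = z * ρ) (hm : Odd m) (hρ : ρ ^ m = 1)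
    (hL : Large (QB Q ρ) (mk ρ (zK hρz))) (k : Subgroup.centralizer ({ρ} : Set G))
    (hk : (k : G) ∈ Q) : emb0 h hρz hL (hL.pr (im1 k hk)) = h.pr ⟨k, hk⟩ := by
  set s := Function.surjInv hL.pr_surjective (hL.pr (im1 k hk)) with hs
  have h1 : hL.pr s = hL.pr (im1 k hk) := Function.surjInv_eq hL.pr_surjective _
  show h.pr ⟨pick s, pick_mem s⟩ = h.pr ⟨k, hk⟩
  rw [h.pr_eq_pr]
  rcases hL.pr_eq_pr.1 h1 with h2 | h2
  · left
    have h3 : mk ρ (pick s) = mk ρ k := by rw [mk_pick]; exact h2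
    show ((pick s : Subgroup.centralizer ({ρ} : Set G)) : G) = k
    exact congrArg Subtype.val (eq_of_mk h hm hρ (pick_mem s) hk h3)
  · right
    have h3 : mk ρ (pick s) = mk ρ (k * zK hρz) := by rw [mk_pick, map_mul]; exact h2
    show ((pick s : Subgroup.centralizer ({ρ} : Set G)) : G) = k * z
    exact congrArg Subtype.val (eq_of_mk h hm hρ (pick_mem s) (Q.mul_mem hk h.z_mem) h3)

/-- the embedding of the spaces -/
noncomputable def emb (h : Large Q z) (hρz : ρ * z = z * ρ) (hm : Odd m) (hρ : ρ ^ m = 1)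
    (hL : Large (QB Q ρ) (mk ρ (zK hρz))) : hL.V →ₗ[ZMod 2] h.V :=
  AddMonoidHom.toZModLinearMap 2
    ({ toFun := emb0 h hρz hL
       map_zero' := by
        have e : (0 : hL.V) = hL.pr (im1 1 Q.one_mem) := by
          rw [← hL.pr_one]
          congr 1
        rw [e, emb0_pr h hρz hm hρ hL]
        exact h.pr_one
       map_add' := by
        intro v w
        obtain ⟨x, rfl⟩ := hL.pr_surjective v
        obtain ⟨y, rfl⟩ := hL.pr_surjective w
        obtain ⟨k, hk, rfl⟩ := exists_im1 x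
        obtain ⟨l, hl, rfl⟩ := exists_im1 y
        rw [← hL.pr_mul]
        have e : im1 k hk * im1 l hl = im1 (k * l) (Q.mul_mem hk hl) :=
          Subtype.ext (map_mul (mk ρ) k l).symm
        rw [e, emb0_pr h hρz hm hρ hL, emb0_pr h hρz hm hρ hL, emb0_pr h hρz hm hρ hL]
        exact h.pr_mul ⟨k, hk⟩ ⟨l, hl⟩ } : hL.V →+ h.V)

theorem emb_pr (h : Large Q z) (hρz : ρ * z = z * ρ) (hm : Odd m) (hρ : ρ ^ m = 1)
    (hL : Large (QB Q ρ) (mk ρ (zK hρz))) (k : Subgroup.centralizer ({ρ} : Set G))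
    (hk : (k : G) ∈ Q) : emb h hρz hm hρ hL (hL.pr (im1 k hk)) = h.pr ⟨k, hk⟩ :=
  emb0_pr h hρz hm hρ hL k hk

theorem exists_pr (hρz : ρ * z = z * ρ) (hL : Large (QB Q ρ) (mk ρ (zK hρz))) (v : hL.V) :
    ∃ (k : Subgroup.centralizer ({ρ} : Set G)) (hk : (k : G) ∈ Q), hL.pr (im1 k hk) = v := by
  obtain ⟨x, rfl⟩ := hL.pr_surjective v
  obtain ⟨k, hk, rfl⟩ := exists_im1 x
  exact ⟨k, hk, rfl⟩

theorem emb_injective (h : Large Q z) (hρz : ρ * z = z * ρ) (hm : Odd m) (hρ : ρ ^ m = 1)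
    (hL : Large (QB Q ρ) (mk ρ (zK hρz))) : Function.Injective (emb h hρz hm hρ hL) := by
  rw [injective_iff_map_eq_zero]
  intro v hv
  obtain ⟨k, hk, rfl⟩ := exists_pr hρz hL v
  rw [emb_pr, h.pr_eq_zero] at hv
  rw [hL.pr_eq_zero]
  rcases hv with h1 | h1
  · left
    show mk ρ k = 1
    rw [show k = 1 from Subtype.ext h1, map_one]
  · right
    show mk ρ k = mk ρ (zK hρz)
    rw [show k = zK hρz from Subtype.ext h1]

theorem q_emb (h : Large Q z) (hρz : ρ * z = z * ρ) (hm : Odd m) (hρ : ρ ^ m = 1)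
    (hL : Large (QB Q ρ) (mk ρ (zK hρz))) (v : hL.V) : h.q (emb h hρz hm hρ hL v) = hL.q v := by
  obtain ⟨k, hk, rfl⟩ := exists_pr hρz hL v
  rw [emb_pr]
  rcases h.sq k hk with h1 | h1
  · rw [h.q_eq_zero.2 h1, hL.q_eq_zero.2]
    show mk ρ k * mk ρ k = 1
    rw [← map_mul, show k * k = 1 from Subtype.ext h1, map_one]
  · rw [h.q_eq_one.2 h1, hL.q_eq_one.2]
    show mk ρ k * mk ρ k = mk ρ (zK hρz)
    rw [← map_mul, show k * k = zK hρz from Subtype.ext h1]

theorem b_emb (h : Large Q z) (hρz : ρ * z = z * ρ) (hm : Odd m) (hρ : ρ ^ m = 1)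
    (hL : Large (QB Q ρ) (mk ρ (zK hρz))) (v w : hL.V) :
    h.b (emb h hρz hm hρ hL v) (emb h hρz hm hρ hL w) = hL.b v w := by
  have h1 := h.q_add' (emb h hρz hm hρ hL v) (emb h hρz hm hρ hL w)
  rw [← map_add, q_emb, q_emb, q_emb, hL.q_add'] at h1
  exact (add_left_cancel h1).symm

/-- the action of `C(z) ∩ C(ρ)` -/
theorem emb_act (h : Large Q z) (hρz : ρ * z = z * ρ) (hm : Odd m) (hρ : ρ ^ m = 1)
    (hL : Large (QB Q ρ) (mk ρ (zK hρz))) (k : Subgroup.centralizer ({ρ} : Set G))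
    (hkz : (k : G) ∈ Subgroup.centralizer ({z} : Set G))
    (hkz' : mk ρ k ∈ Subgroup.centralizer ({mk ρ (zK hρz)} : Set (KB ρ))) (v : hL.V) :
    emb h hρz hm hρ hL (hL.act ⟨mk ρ k, hkz'⟩ v) = h.act ⟨k, hkz⟩ (emb h hρz hm hρ hL v) := by
  obtain ⟨t, ht, rfl⟩ := exists_pr hρz hL v
  have hk : (k : G) * z = z * k := Subgroup.mem_centralizer_singleton_iff.1 hkz
  rw [hL.act_pr, emb_pr, h.act_pr]
  have e : hL.conjQ ⟨mk ρ k, hkz'⟩ (im1 t ht) = im1 (k * t * k⁻¹) (h.conj_mem k hk t ht) := by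
    apply Subtype.ext
    show mk ρ k * mk ρ t * (mk ρ k)⁻¹ = mk ρ (k * t * k⁻¹)
    rw [map_mul, map_mul, map_inv]
  rw [e, emb_pr]
  rfl

/-- the image consists of the fixed vectors -/
theorem exists_emb (h : Large Q z) (hρz : ρ * z = z * ρ) (hm : Odd m) (hρ : ρ ^ m = 1)
    (hL : Large (QB Q ρ) (mk ρ (zK hρz))) (v : h.V)
    (hv : h.act ⟨ρ, Subgroup.mem_centralizer_singleton_iff.2 hρz⟩ v = v) :
    ∃ w, emb h hρz hm hρ hL w = v := by
  obtain ⟨x, rfl⟩ := h.pr_surjective v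
  rw [h.act_pr, h.pr_eq_pr, h.conjQ_coe] at hv
  have h1 : ρ * (x : G) = x * ρ := comm_of_fix h hρz hm hρ hv
  exact ⟨hL.pr (im1 ⟨x, Subgroup.mem_centralizer_singleton_iff.2 h1.symm⟩ x.2), by rw [emb_pr]⟩

theorem act_emb (h : Large Q z) (hρz : ρ * z = z * ρ) (hm : Odd m) (hρ : ρ ^ m = 1)
    (hL : Large (QB Q ρ) (mk ρ (zK hρz))) (v : hL.V) :
    h.act ⟨ρ, Subgroup.mem_centralizer_singleton_iff.2 hρz⟩ (emb h hρz hm hρ hL v)
      = emb h hρz hm hρ hL v := by
  obtain ⟨t, ht, rfl⟩ := exists_pr hρz hL v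
  rw [emb_pr]
  apply Base.Pair.act_pr_coe
  show ρ * (t : G) * ρ⁻¹ = t
  rw [← (Subgroup.mem_centralizer_singleton_iff.1 t.2)]; group

end emb

/-! ### products of two reflections -/

section RR

variable {G : Type*} [Group G] {Q : Subgroup G} {z ρ : G} {m : ℕ}

/-- the transvection with centre `u` (a reflection if `q u = 1`) -/
noncomputable def tr (h : Large Q z) (u x : h.V) : h.V := x + h.b u x • u

/-- every product of two reflections comes from `C(z)` -/
def RR (h : Large Q z) : Prop := ∀ u v : h.V, h.q u = 1 → h.q v = 1 →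
  ∃ c : Subgroup.centralizer ({z} : Set G), ∀ x, h.act c x = tr h u (tr h v x)

theorem act_tr (h : Large Q z) (c : Subgroup.centralizer ({z} : Set G)) {u : h.V}
    (hu : h.act c u = u) (x : h.V) : h.act c (tr h u x) = tr h u (h.act c x) := by
  have hb : h.b u (h.act c x) = h.b u x := by
    have := h.b_act c u x
    rwa [hu] at this
  rw [tr, tr, map_add, map_smul, hu, hb]

theorem emb_tr (h : Large Q z) (hρz : ρ * z = z * ρ) (hm : Odd m) (hρ : ρ ^ m = 1)
    (hL : Large (QB Q ρ) (mk ρ (zK hρz))) (u x : hL.V) :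
    emb h hρz hm hρ hL (tr hL u x) = tr h (emb h hρz hm hρ hL u) (emb h hρz hm hρ hL x) := by
  rw [tr, tr, map_add, map_smul, b_emb]

/-- an element commuting with `ρ` modulo `Q` can be corrected by an element of `Q`, `ρ` of prime order -/
theorem exists_correct [Finite G] (h : Large Q z) (hρz : ρ * z = z * ρ) {p : ℕ} (hp : p.Prime)
    (hp2 : Odd p) (hρ : ρ ^ p = 1) {c : G} (hc : c⁻¹ * ρ * c * ρ⁻¹ ∈ Q) :
    ∃ y ∈ Q, (c * y) * ρ = ρ * (c * y) := by
  classical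
  have hfp : Fact p.Prime := ⟨hp⟩
  have hft : Fintype Q := Fintype.ofFinite Q
  have hρm : ∀ y ∈ Q, ρ * y * ρ⁻¹ ∈ Q := fun y hy => h.conj_mem ρ hρz y hy
  have hρz' : ρ⁻¹ * z = z * ρ⁻¹ := by
    rw [inv_mul_eq_iff_eq_mul, ← mul_assoc, hρz, mul_assoc, mul_inv_cancel, mul_one]
  have hρi : ∀ y ∈ Q, ρ⁻¹ * y * ρ ∈ Q := by
    intro y hy
    have := h.conj_mem ρ⁻¹ hρz' y hy
    rwa [inv_inv] at this
  set r := c⁻¹ * ρ * c with hr
  have e1 : ∀ y : G, r * y * ρ⁻¹ = (r * ρ⁻¹) * (ρ * y * ρ⁻¹) := by intro y; group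
  have e2 : ∀ y : G, r⁻¹ * y * ρ = ρ⁻¹ * ((r * ρ⁻¹)⁻¹ * y) * ρ := by intro y; group
  have m1 : ∀ y ∈ Q, r * y * ρ⁻¹ ∈ Q := by
    intro y hy
    rw [e1]
    exact Q.mul_mem hc (hρm y hy)
  have m2 : ∀ y ∈ Q, r⁻¹ * y * ρ ∈ Q := by
    intro y hy
    rw [e2]
    exact hρi _ (Q.mul_mem (Q.inv_mem hc) hy)
  let σ : Equiv.Perm Q :=
    { toFun := fun y => ⟨r * y * ρ⁻¹, m1 y y.2⟩
      invFun := fun y => ⟨r⁻¹ * y * ρ, m2 y y.2⟩
      left_inv := fun y => Subtype.ext (by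
        show r⁻¹ * (r * y * ρ⁻¹) * ρ = y
        group)
      right_inv := fun y => Subtype.ext (by
        show r * (r⁻¹ * y * ρ) * ρ⁻¹ = y
        group) }
  have hσi : ∀ (i : ℕ) (y : Q), (((σ ^ i) y : Q) : G) = r ^ i * y * (ρ⁻¹) ^ i := by
    intro i
    induction i with
    | zero => intro y; simp
    | succ n ih =>
      intro y
      rw [pow_succ']
      show r * (((σ ^ n) y : Q) : G) * ρ⁻¹ = _
      rw [ih, pow_succ', pow_succ]
      simp only [mul_assoc]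
  have hrp : r ^ p = 1 := by
    have : r = c⁻¹ * ρ * (c⁻¹)⁻¹ := by rw [hr, inv_inv]
    rw [this, conj_pow, hρ, mul_one, mul_inv_cancel]
  have hσ : σ ^ p ^ 1 = 1 := by
    rw [pow_one]
    ext y
    rw [hσi, hrp, one_mul, inv_pow, hρ, inv_one, mul_one]
    rfl
  have hnd : ¬ p ∣ Fintype.card Q := by
    obtain ⟨n, hn⟩ := IsPGroup.iff_card.1 (isPGroup h)
    rw [← Nat.card_eq_fintype_card, hn]
    intro hd
    have h1 := (Nat.prime_dvd_prime_iff_eq hp Nat.prime_two).1 (hp.dvd_of_dvd_pow hd)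
    rw [h1] at hp2
    exact absurd hp2 (by decide)
  obtain ⟨y, hy⟩ := Equiv.Perm.exists_fixed_point_of_prime hnd hσ
  refine ⟨y, y.2, ?_⟩
  have h1 : r * (y : G) * ρ⁻¹ = y := congrArg Subtype.val hy
  rw [mul_inv_eq_iff_eq_mul] at h1
  rw [mul_assoc, ← h1, hr]
  group

/-- (RR) goes to the quotient -/
theorem rr [Finite G] (h : Large Q z) (hρz : ρ * z = z * ρ) {p : ℕ} (hp : p.Prime) (hp2 : Odd p)
    (hρ : ρ ^ p = 1) (hL : Large (QB Q ρ) (mk ρ (zK hρz))) (hR : RR h) : RR hL := by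
  intro u v hu hv
  set ρ' : Subgroup.centralizer ({z} : Set G) := ⟨ρ, Subgroup.mem_centralizer_singleton_iff.2 hρz⟩
    with hρ'
  set j := emb h hρz hp2 hρ hL with hj
  obtain ⟨c, hc⟩ := hR (j u) (j v) (by rw [hj, q_emb, hu]) (by rw [hj, q_emb, hv])
  have hcz : (c : G) * z = z * c := Subgroup.mem_centralizer_singleton_iff.1 c.2
  have hju : h.act ρ' (j u) = j u := act_emb h hρz hp2 hρ hL u
  have hjv : h.act ρ' (j v) = j v := act_emb h hρz hp2 hρ hL v
  have hcomm : h.act ρ' * h.act c = h.act c * h.act ρ' := by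
    ext x
    show h.act ρ' (h.act c x) = h.act c (h.act ρ' x)
    rw [hc, hc, act_tr h ρ' hju, act_tr h ρ' hjv]
  have hmem : (c : G)⁻¹ * ρ * c * ρ⁻¹ ∈ Q := by
    have h1 : h.act (c⁻¹ * ρ' * c * ρ'⁻¹) = 1 := by
      rw [map_mul, map_mul, map_mul, map_inv, map_inv, mul_assoc (h.act c)⁻¹, hcomm]
      group
    exact h.mem_of_act _ h1
  obtain ⟨y, hy, hyρ⟩ := exists_correct h hρz hp hp2 hρ hmem
  have hyz : y * z = z * y := h.comm_z y hy
  have hkz : (c : G) * y * z = z * (c * y) := by rw [mul_assoc, hyz, ← mul_assoc, hcz, mul_assoc]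
  set k : Subgroup.centralizer ({ρ} : Set G) :=
    ⟨c * y, Subgroup.mem_centralizer_singleton_iff.2 hyρ⟩ with hk
  have hkz1 : (k : G) ∈ Subgroup.centralizer ({z} : Set G) :=
    Subgroup.mem_centralizer_singleton_iff.2 hkz
  have hkz2 : mk ρ k ∈ Subgroup.centralizer ({mk ρ (zK hρz)} : Set (KB ρ)) := by
    rw [Subgroup.mem_centralizer_singleton_iff, ← map_mul, ← map_mul]
    congr 1
    exact Subtype.ext hkz
  refine ⟨⟨mk ρ k, hkz2⟩, fun x => ?_⟩
  apply emb_injective h hρz hp2 hρ hL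
  rw [emb_act h hρz hp2 hρ hL k hkz1 hkz2, emb_tr, emb_tr]
  have e : (⟨k, hkz1⟩ : Subgroup.centralizer ({z} : Set G)) =
      c * ⟨y, Subgroup.mem_centralizer_singleton_iff.2 hyz⟩ := Subtype.ext rfl
  rw [e, map_mul, h.act_mem ⟨y, _⟩ hy, mul_one]
  exact hc _

end RR

/-! ### the abstract quotient -/

section main

universe u

variable {G : Type u} [Group G] {Q : Subgroup G} {z : G}

/-- **The reduction step.** `c ∈ C(z)` acts on `V` with order 3 or 5, and its powers are the only isometries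
that commute with it and are trivial on its fixed vectors: then the space of its fixed vectors belongs to
another large extraspecial subgroup with the same properties. -/
theorem exists_quot [Finite G] (h : Large Q z) (hF : Fus Q z) (hR : RR h)
    (c : Subgroup.centralizer ({z} : Set G)) {p : ℕ} (hp : p = 3 ∨ p = 5) (hcp : h.act c ^ p = 1)
    (hself : ∀ g : h.V ≃ₗ[ZMod 2] h.V, (∀ x, h.q (g x) = h.q x) →
      (∀ x, g (h.act c x) = h.act c (g x)) → (∀ w, h.act c w = w → g w = w) →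
      ∃ i : ℕ, g = h.act c ^ i) :
    ∃ (G' : Type u) (_ : Group G') (_ : Finite G') (Q' : Subgroup G') (z' : G')
      (h' : Large Q' z') (j : h'.V →ₗ[ZMod 2] h.V), Fus Q' z' ∧ RR h' ∧ Function.Injective j ∧
      (∀ x, h.q (j x) = h'.q x) ∧ (∀ x y, h.b (j x) (j y) = h'.b x y) ∧
      (∀ y, h.act c y = y ↔ ∃ x, j x = y) := by
  have hpp : p.Prime := by rcases hp with rfl | rfl <;> decide
  have hpo : Odd p := by rcases hp with rfl | rfl <;> decide
  set ρ' : Subgroup.centralizer ({z} : Set G) := c ^ 16 with hρ'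
  set ρ : G := (ρ' : G) with hρ
  have hρz : ρ * z = z * ρ := Subgroup.mem_centralizer_singleton_iff.1 ρ'.2
  have hcpQ : ((c ^ p : Subgroup.centralizer ({z} : Set G)) : G) ∈ Q := by
    apply h.mem_of_act
    rw [map_pow, hcp]
  have hρp : ρ ^ p = 1 := by
    have h4 := pow_four h hcpQ
    have e : ρ ^ p = (((c ^ p : Subgroup.centralizer ({z} : Set G)) : G) ^ 4) ^ 4 := by
      rw [hρ, hρ', SubmonoidClass.coe_pow, SubmonoidClass.coe_pow, ← pow_mul, ← pow_mul, ← pow_mul]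
      congr 1
      ring
    rw [e, h4, one_pow]
  have hact : h.act ρ' = h.act c := by
    rw [hρ', map_pow]
    rcases hp with rfl | rfl
    · rw [show (16 : ℕ) = 3 * 5 + 1 by norm_num, pow_add, pow_mul, hcp, one_pow, one_mul, pow_one]
    · rw [show (16 : ℕ) = 5 * 3 + 1 by norm_num, pow_add, pow_mul, hcp, one_pow, one_mul, pow_one]
  have hρρ : (⟨ρ, Subgroup.mem_centralizer_singleton_iff.2 hρz⟩ :
      Subgroup.centralizer ({z} : Set G)) = ρ' := Subtype.ext rfl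
  have hL : Large (QB Q ρ) (mk ρ (zK hρz)) := by
    apply TwoAQuot.large h hρz hpo hρp
    intro k hkz hkρ hk
    set k' : Subgroup.centralizer ({z} : Set G) := ⟨k, Subgroup.mem_centralizer_singleton_iff.2 hkz⟩
      with hk'
    obtain ⟨i, hi⟩ := hself (h.act k') (fun x => h.q_act k' x) (by
      intro x
      have hkk : k' * ρ' = ρ' * k' := Subtype.ext hkρ
      have := congrArg h.act hkk
      rw [map_mul, map_mul, hact] at this
      exact congrArg (fun g : h.V ≃ₗ[ZMod 2] h.V => g x) this) (by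
      intro w hw
      obtain ⟨x, rfl⟩ := h.pr_surjective w
      rw [← hact, h.act_pr, h.pr_eq_pr, h.conjQ_coe] at hw
      have h1 : ρ * (x : G) = x * ρ := comm_of_fix h hρz hpo hρp hw
      apply Base.Pair.act_pr_coe
      show k * (x : G) * k⁻¹ = x
      rw [hk x x.2 h1]; group)
    have hmem2 : ((k' * (ρ' ^ i)⁻¹ : Subgroup.centralizer ({z} : Set G)) : G) ∈ Q := by
      apply h.mem_of_act
      rw [map_mul, map_inv, map_pow, hact, mul_inv_eq_one]
      exact hi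
    refine ⟨(rho ρ ^ i)⁻¹, Subgroup.inv_mem _ (Subgroup.pow_mem _ (Subgroup.mem_zpowers _) i), ?_⟩
    have e : (((rho ρ ^ i)⁻¹ : Subgroup.centralizer ({ρ} : Set G)) : G) = ((ρ' ^ i)⁻¹ :
        Subgroup.centralizer ({z} : Set G)) := by
      rw [InvMemClass.coe_inv, SubmonoidClass.coe_pow, InvMemClass.coe_inv, SubmonoidClass.coe_pow]
      rfl
    rw [e]
    exact hmem2
  refine ⟨KB ρ, inferInstance, inferInstance, QB Q ρ, mk ρ (zK hρz), hL, emb h hρz hpo hρp hL,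
    TwoAQuot.fus h hρz hpo hρp hL hF, rr h hρz hpp hpo hρp hL hR, emb_injective h hρz hpo hρp hL,
    q_emb h hρz hpo hρp hL, b_emb h hρz hpo hρp hL, fun y => ⟨fun hy => ?_, ?_⟩⟩
  · apply exists_emb h hρz hpo hρp hL
    rw [hρρ, hact]
    exact hy
  · rintro ⟨x, rfl⟩
    have := act_emb h hρz hpo hρp hL x
    rwa [hρρ, hact] at this

end main

end Cfsg.Agent.LargeExtra.TwoAEmb
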