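import Cfsg.Agent.LargeExtra.TwoA.Chain
import Cfsg.Agent.LargeExtra.Dickson

/-!
# `|D̃| = 2` is impossible in width at least 5 (helper71)

`TwoA.false_of_pair`: `Q` large extraspecial of order at least `2^11`, `a ∈ Q ∖ ⟨z⟩` conjugate to `z`,
`Q ∩ Q_a = ⟨z, a⟩`, `O_2(C(z)) = Q`: impossible.  (Induction by `C_G(ρ) / ⟨ρ⟩`, `ρ` of order 3 or 5, down to
`|Q| = 2^7` of plus type.)
-/

set_option autoImplicit false

namespace Cfsg.Agent.LargeExtra.TwoA

open Cfsg.Agent.Co2Type.Quad Cfsg.Agent.LargeExtra.Base Cfsg.Agent.LargeExtra.Local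
open Cfsg.Agent.LargeExtra.Siegel Cfsg.Agent.LargeExtra.SiegelOrbit
open Cfsg.Agent.LargeExtra.KillSiegel Cfsg.Agent.LargeExtra.TwoAQuot Cfsg.Agent.LargeExtra.TwoAEmb
open Cfsg.Agent.LargeExtra.TwoAChain Cfsg.Agent.LieClassical.OrthCore
open Cfsg.Agent.LieClassical.OrthTrans

section lin

variable {G : Type*} [Group G] [Finite G] {Q : Subgroup G} {z : G}

/-- an anisotropic plane -/
theorem exists_aniso (h : Large Q z) (hV : 4 < Nat.card h.V) :
    ∃ u v : h.V, h.q u = 1 ∧ h.q v = 1 ∧ h.b u v = 1 := by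
  have hsame : ∀ c : ZMod 2, c ≠ 1 → c = 0 := by decide
  -- a nonsingular vector
  obtain ⟨u, hu⟩ : ∃ u, h.q u = 1 := by
    by_contra hcon
    push Not at hcon
    have h0 : ∀ v, h.q v = 0 := fun v => hsame _ (hcon v)
    have h1 : ∀ v : h.V, v = 0 := by
      intro v
      apply h.b_nondeg
      intro w
      have := h.q_add' v w
      rw [h0, h0, h0, zero_add, zero_add] at this
      exact this.symm
    have h2 : Nat.card h.V ≤ 1 := by
      have : Subsingleton h.V := ⟨fun a b => by rw [h1 a, h1 b]⟩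
      exact Finite.card_le_one_iff_subsingleton.2 this
    omega
  by_contra hcon
  push Not at hcon
  have hcon' : ∀ v, h.b u v = 1 → h.q v = 0 := fun v hv => hsame _ (fun hq => hcon u v hu hq hv)
  have hu0 : u ≠ 0 := by
    rintro rfl
    rw [h.q_zero] at hu
    exact absurd hu (by decide)
  obtain ⟨v, hv⟩ : ∃ v, h.b u v = 1 := by
    by_contra hc
    push Not at hc
    exact hu0 (h.b_nondeg fun w => hsame _ (hc w))
  have hqw : ∀ w, h.b u w = 0 → h.q w = h.b v w := by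
    intro w hw
    have h1 := hcon' (v + w) (by rw [map_add, hv, hw, add_zero])
    rw [h.q_add', hcon' v hv, zero_add] at h1
    exact CharTwo.add_eq_zero.1 h1
  set S := h.b.orthogonal (Submodule.span (ZMod 2) ({u} : Set h.V)) with hS
  have hSu : ∀ w, w ∈ S → h.b u w = 0 := by
    intro w hw
    exact (Perp.mem_perp h _).1 hw u (Submodule.mem_span_singleton_self u)
  have h1 : Nat.card S * Nat.card S ≤ Nat.card h.V := by
    apply Perp.card_sq_le h
    intro w hw w' hw'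
    have e1 := hqw w (hSu w hw)
    have e2 := hqw w' (hSu w' hw')
    have e3 := hqw (w + w') (by rw [map_add, hSu w hw, hSu w' hw', add_zero])
    rw [h.q_add', e1, e2, map_add] at e3
    exact left_eq_add.1 e3.symm
  have h2 := Perp.card_perp h (Submodule.span (ZMod 2) ({u} : Set h.V))
  have h3 : Nat.card (Submodule.span (ZMod 2) ({u} : Set h.V)) ≤ 2 := by
    have : Function.Surjective (fun c : ZMod 2 =>
        (⟨c • u, Submodule.mem_span_singleton.2 ⟨c, rfl⟩⟩ :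
          Submodule.span (ZMod 2) ({u} : Set h.V))) := by
      rintro ⟨y, hy⟩
      obtain ⟨c, rfl⟩ := Submodule.mem_span_singleton.1 hy
      exact ⟨c, rfl⟩
    have := Nat.card_le_card_of_surjective _ this
    rwa [Nat.card_zmod] at this
  have h4 : Nat.card h.V ≤ 2 * Nat.card S := by
    rw [← h2]
    exact Nat.mul_le_mul_right _ h3
  have h5 : Nat.card h.V * Nat.card h.V ≤ 4 * Nat.card h.V := by
    calc Nat.card h.V * Nat.card h.V ≤ (2 * Nat.card S) * (2 * Nat.card S) := Nat.mul_le_mul h4 h4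
      _ = 4 * (Nat.card S * Nat.card S) := by ring
      _ ≤ _ := Nat.mul_le_mul_left _ h1
  have h6 : Nat.card h.V ≤ 4 := Nat.le_of_mul_le_mul_right h5 (by omega)
  omega

/-- a vector outside the radical of `S^⊥` -/
theorem exists_mate (h : Large Q z) {S : Submodule (ZMod 2) h.V} {x : h.V} (hx : x ∉ S) :
    ∃ y, (∀ s ∈ S, h.b s y = 0) ∧ h.b x y = 1 := by
  by_contra hcon
  push Not at hcon
  apply hx
  apply Perp.mem_of_perp h
  intro w hw
  rw [h.b_comm]
  rcases zmod2 (h.b x w) with h1 | h1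
  · exact h1
  · exact absurd h1 (hcon w hw)

omit [Finite G] in
/-- a normalised basis of a nondegenerate plane -/
theorem exists_norm (h : Large Q z) {L : Submodule (ZMod 2) h.V} {e f : h.V} (he : e ∈ L)
    (hf : f ∈ L) (bef : h.b e f = 1) :
    ∃ e' ∈ L, ∃ f' ∈ L, h.b e' f' = 1 ∧ ((h.q e' = 0 ∧ h.q f' = 0) ∨ (h.q e' = 1 ∧ h.q f' = 1)) ∧
      ∀ y, h.b e y = 0 → h.b f y = 0 → h.b e' y = 0 ∧ h.b f' y = 0 := by
  have bfe : h.b f e = 1 := by rw [h.b_comm]; exact bef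
  rcases zmod2 (h.q e) with h1 | h1 <;> rcases zmod2 (h.q f) with h2 | h2
  · exact ⟨e, he, f, hf, bef, Or.inl ⟨h1, h2⟩, fun y hy1 hy2 => ⟨hy1, hy2⟩⟩
  · refine ⟨e, he, e + f, L.add_mem he hf, by rw [map_add, h.b_self, bef, zero_add],
      Or.inl ⟨h1, by rw [h.q_add', h1, h2, bef]; decide⟩, fun y hy1 hy2 => ⟨hy1, by
        rw [map_add, LinearMap.add_apply, hy1, hy2, add_zero]⟩⟩
  · refine ⟨f, hf, e + f, L.add_mem he hf, by rw [map_add, h.b_self, bfe, add_zero],
      Or.inl ⟨h2, by rw [h.q_add', h1, h2, bef]; decide⟩, fun y hy1 hy2 => ⟨hy2, by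
        rw [map_add, LinearMap.add_apply, hy1, hy2, add_zero]⟩⟩
  · exact ⟨e, he, f, hf, bef, Or.inr ⟨h1, h2⟩, fun y hy1 hy2 => ⟨hy1, hy2⟩⟩

/-- width 5: a totally singular 3-space `T` and two orthogonal planes perpendicular to it -/
theorem exists_planes (h : Large Q z) (hV : Nat.card h.V = 1024) :
    ∃ (T : Submodule (ZMod 2) h.V) (e f x y : h.V), (∀ t ∈ T, h.q t = 0) ∧ Nat.card T = 8 ∧
      (∀ t ∈ T, h.b t e = 0 ∧ h.b t f = 0 ∧ h.b t x = 0 ∧ h.b t y = 0) ∧
      h.b e f = 1 ∧ h.b x y = 1 ∧ h.b e x = 0 ∧ h.b e y = 0 ∧ h.b f x = 0 ∧ h.b f y = 0 := by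
  obtain ⟨T, hT, hc⟩ := KOneLin.exists_ts h (by omega)
  have hp := Perp.card_perp h T
  rw [hc, hV] at hp
  obtain ⟨e, he, heT⟩ : ∃ u, (∀ t ∈ T, h.b t u = 0) ∧ u ∉ T := by
    by_contra hcon
    push Not at hcon
    have hle : h.b.orthogonal T ≤ T := fun w hw => hcon w ((Perp.mem_perp h T).1 hw)
    have h2 : Nat.card (h.b.orthogonal T) ≤ Nat.card T :=
      Nat.card_le_card_of_injective _ (Submodule.inclusion_injective hle)
    omega
  obtain ⟨f, hf, bef⟩ := exists_mate h heT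
  have bfe : h.b f e = 1 := by rw [h.b_comm]; exact bef
  have c1 := KOneLin.card_sup h heT
  set S1 := T ⊔ Submodule.span (ZMod 2) {e} with hS1
  have hfS : f ∉ S1 := by
    intro h1
    have h2 : h.b e f = 0 := by
      rcases KOneLin.mem_sup_iff h h1 with h3 | ⟨t, ht, rfl⟩
      · rw [h.b_comm]; exact he f h3
      · rw [map_add, h.b_self, add_zero, h.b_comm]; exact he t ht
    rw [bef] at h2
    exact absurd h2 (by decide)
  have c2 := KOneLin.card_sup h hfS
  set S := S1 ⊔ Submodule.span (ZMod 2) {f} with hS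
  have hTS : T ≤ S := le_sup_left.trans le_sup_left
  have heS : e ∈ S := (le_sup_left : S1 ≤ S)
    ((le_sup_right : _ ≤ S1) (Submodule.mem_span_singleton_self e))
  have hfS' : f ∈ S := (le_sup_right : _ ≤ S) (Submodule.mem_span_singleton_self f)
  obtain ⟨x, hx, hxS⟩ : ∃ x, (∀ s ∈ S, h.b s x = 0) ∧ x ∉ S := by
    by_contra hcon
    push Not at hcon
    have h1 := Perp.card_perp h S
    have hle : h.b.orthogonal S ≤ S := fun w hw => hcon w ((Perp.mem_perp h S).1 hw)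
    have hlt : h.b.orthogonal S ≠ S := by
      intro he'
      have : e ∈ h.b.orthogonal S := by rw [he']; exact heS
      have := (Perp.mem_perp h S).1 this f hfS'
      rw [bfe] at this
      exact absurd this (by decide)
    have hcS : Nat.card S = 32 := by rw [c2, c1, hc]
    rw [hcS, hV] at h1
    apply hlt
    apply SetLike.coe_injective
    apply Set.eq_of_subset_of_ncard_le hle _ (Set.toFinite _)
    show Nat.card S ≤ Nat.card (h.b.orthogonal S)
    omega
  obtain ⟨y, hy, bxy⟩ := exists_mate h hxS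
  exact ⟨T, e, f, x, y, hT, hc, fun t ht => ⟨he t ht, hf t ht, hx t (hTS ht), hy t (hTS ht)⟩, bef, bxy,
    hx e heS, hy e heS, hx f hfS', hy f hfS'⟩

end lin

section kill

/-- width 3, plus type -/
theorem false_six {G : Type*} [Group G] [Finite G] {Q : Subgroup G} {z : G} (h : Large Q z)
    (hF : Fus Q z) (hV : Nat.card h.V = 64) {T : Submodule (ZMod 2) h.V} (hT : ∀ t ∈ T, h.q t = 0)
    (hc : Nat.card T = 8) : False := by
  apply KillPlus.false_of_plus (B := KOne.pre h T) h (by rw [h.card_eq, hV]; norm_num) hF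
  · exact fun x hx => hx.1
  · exact ⟨h.z_mem, by
      rw [show h.pr ⟨z, h.z_mem⟩ = 0 from h.pr_eq_zero.2 (Or.inr rfl)]; exact T.zero_mem⟩
  · rintro x ⟨hx, hxT⟩
    exact h.q_eq_zero.1 (hT _ hxT)
  · rw [KOne.card_pre, hc]

/-- the preimage of a subspace -/
theorem card_comap {V V' : Type*} [AddCommGroup V] [Module (ZMod 2) V] [AddCommGroup V']
    [Module (ZMod 2) V'] (j : V' →ₗ[ZMod 2] V) (hj : Function.Injective j)
    {T : Submodule (ZMod 2) V} (hT : ∀ t ∈ T, ∃ x, j x = t) :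
    Nat.card (T.comap j) = Nat.card T := by
  refine Nat.card_eq_of_bijective (fun x : T.comap j => (⟨j x, x.2⟩ : T)) ⟨?_, ?_⟩
  · intro x y hxy
    exact Subtype.ext (hj (congrArg Subtype.val hxy))
  · rintro ⟨t, ht⟩
    obtain ⟨x, rfl⟩ := hT t ht
    exact ⟨⟨x, ht⟩, rfl⟩

universe u

/-- width 5, two anisotropic planes -/
theorem false_planes {G : Type u} [Group G] [Finite G] {Q : Subgroup G} {z : G} (h : Large Q z)
    (hF : Fus Q z) (hR : RR h) (hV : Nat.card h.V = 1024) {T : Submodule (ZMod 2) h.V}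
    (hT : ∀ t ∈ T, h.q t = 0) (hc : Nat.card T = 8) {u v u' v' : h.V}
    (hTT : ∀ t ∈ T, h.b t u = 0 ∧ h.b t v = 0 ∧ h.b t u' = 0 ∧ h.b t v' = 0)
    (qu : h.q u = 1) (qv : h.q v = 1) (buv : h.b u v = 1)
    (qu' : h.q u' = 1) (qv' : h.q v' = 1) (buv' : h.b u' v' = 1)
    (b1 : h.b u u' = 0) (b2 : h.b u v' = 0) (b3 : h.b v u' = 0) (b4 : h.b v v' = 0) : False := by
  obtain ⟨G1, i1, i2, Q1, z1, h1, j1, hF1, hR1, hj1, q1, bb1, hP1⟩ := red_two h hF hR qu qv buv
  have c1 := card_two j1 hj1 buv hP1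
  obtain ⟨u1, rfl⟩ := (hP1 u').1 ⟨b1, b3⟩
  obtain ⟨v1, rfl⟩ := (hP1 v').1 ⟨b2, b4⟩
  rw [q1] at qu' qv'
  rw [bb1] at buv'
  have hT1 : ∀ t ∈ T, ∃ x, j1 x = t := fun t ht => (hP1 t).1
    ⟨by rw [h.b_comm]; exact (hTT t ht).1, by rw [h.b_comm]; exact (hTT t ht).2.1⟩
  have cT1 := card_comap j1 hj1 hT1
  obtain ⟨G2, i3, i4, Q2, z2, h2, j2, hF2, hR2, hj2, q2, bb2, hP2⟩ :=
    red_two h1 hF1 hR1 qu' qv' buv'
  have c2 := card_two j2 hj2 buv' hP2
  have hT2 : ∀ t ∈ T.comap j1, ∃ x, j2 x = t := by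
    intro t ht
    apply (hP2 t).1
    rw [← bb1, ← bb1]
    exact ⟨by rw [h.b_comm]; exact (hTT _ ht).2.2.1, by rw [h.b_comm]; exact (hTT _ ht).2.2.2⟩
  have cT2 := card_comap j2 hj2 hT2
  apply false_six h2 hF2 (by omega) (T := (T.comap j1).comap j2) _ (by rw [cT2, cT1, hc])
  intro t ht
  rw [← q2, ← q1]
  exact hT _ ht

/-- width 5, a four-space of minus type -/
theorem false_chain {G : Type u} [Group G] [Finite G] {Q : Subgroup G} {z : G} (h : Large Q z)
    (hF : Fus Q z) (hR : RR h) (hV : Nat.card h.V = 1024) {T : Submodule (ZMod 2) h.V}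
    (hT : ∀ t ∈ T, h.q t = 0) (hc : Nat.card T = 8) {u1 u2 u3 u4 : h.V} (s : Chain h u1 u2 u3 u4)
    (hTT : ∀ t ∈ T, h.b u1 t = 0 ∧ h.b u2 t = 0 ∧ h.b u3 t = 0 ∧ h.b u4 t = 0) : False := by
  obtain ⟨G1, i1, i2, Q1, z1, h1, j1, hF1, hR1, hj1, q1, bb1, hP1⟩ := red_four h hF hR s
  have c1 := card_four j1 hj1 s hP1
  have cT1 := card_comap j1 hj1 (T := T) (fun t ht => (hP1 t).1 (hTT t ht))
  apply false_six h1 hF1 (by omega) (T := T.comap j1) _ (by rw [cT1, hc])
  intro t ht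
  rw [← q1]
  exact hT _ ht

/-- a hyperbolic plane and an anisotropic plane contain an `A_4`-chain -/
theorem chain_of {G : Type*} [Group G] {Q : Subgroup G} {z : G} {h : Large Q z} {e f x y : h.V}
    (qe : h.q e = 0) (qf : h.q f = 0) (qx : h.q x = 1) (qy : h.q y = 1) (bef : h.b e f = 1)
    (bxy : h.b x y = 1) (bex : h.b e x = 0) (bey : h.b e y = 0) (bfx : h.b f x = 0)
    (bfy : h.b f y = 0) : Chain h (e + f) (e + x) y x := by
  have bfe : h.b f e = 1 := by rw [h.b_comm]; exact bef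
  have byx : h.b y x = 1 := by rw [h.b_comm]; exact bxy
  refine ⟨?_, ?_, qy, qx, ?_, ?_, byx, ?_, ?_, ?_⟩
  · rw [h.q_add', qe, qf, bef]; decide
  · rw [h.q_add', qe, qx, bex]; decide
  · simp only [map_add, LinearMap.add_apply, h.b_self, bfe, bex, bfx]; decide
  · simp only [map_add, LinearMap.add_apply, bey, bxy]; decide
  · simp only [map_add, LinearMap.add_apply, bey, bfy]; decide
  · simp only [map_add, LinearMap.add_apply, bex, bfx]; decide
  · simp only [map_add, LinearMap.add_apply, bex, h.b_self]; decide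

/-- width 5 -/
theorem false_ten {G : Type u} [Group G] [Finite G] {Q : Subgroup G} {z : G} (h : Large Q z)
    (hF : Fus Q z) (hR : RR h) (hV : Nat.card h.V = 1024) : False := by
  obtain ⟨T, e, f, x, y, hT, hc, hTT, bef, bxy, bex, bey, bfx, bfy⟩ := exists_planes h hV
  set L := h.b.orthogonal T with hL
  have hmL : ∀ v, (∀ t ∈ T, h.b t v = 0) → v ∈ L := fun v hv => (Perp.mem_perp h T).2 hv
  obtain ⟨e', he', f', hf', bef', hq1, hy1⟩ := exists_norm h (L := L) (hmL e fun t ht => (hTT t ht).1)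
    (hmL f fun t ht => (hTT t ht).2.1) bef
  obtain ⟨x', hx', y', hy', bxy', hq2, hy2⟩ := exists_norm h (L := L)
    (hmL x fun t ht => (hTT t ht).2.2.1) (hmL y fun t ht => (hTT t ht).2.2.2) bxy
  obtain ⟨g1, g2⟩ := hy1 x bex bfx
  obtain ⟨g3, g4⟩ := hy1 y bey bfy
  obtain ⟨g5, g6⟩ := hy2 e' (by rw [h.b_comm]; exact g1) (by rw [h.b_comm]; exact g3)
  obtain ⟨g7, g8⟩ := hy2 f' (by rw [h.b_comm]; exact g2) (by rw [h.b_comm]; exact g4)
  have k1 : h.b e' x' = 0 := by rw [h.b_comm]; exact g5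
  have k2 : h.b e' y' = 0 := by rw [h.b_comm]; exact g6
  have k3 : h.b f' x' = 0 := by rw [h.b_comm]; exact g7
  have k4 : h.b f' y' = 0 := by rw [h.b_comm]; exact g8
  have bfe' : h.b f' e' = 1 := by rw [h.b_comm]; exact bef'
  have byx' : h.b y' x' = 1 := by rw [h.b_comm]; exact bxy'
  have m1 : ∀ t ∈ T, h.b t e' = 0 := (Perp.mem_perp h T).1 he'
  have m2 : ∀ t ∈ T, h.b t f' = 0 := (Perp.mem_perp h T).1 hf'
  have m3 : ∀ t ∈ T, h.b t x' = 0 := (Perp.mem_perp h T).1 hx'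
  have m4 : ∀ t ∈ T, h.b t y' = 0 := (Perp.mem_perp h T).1 hy'
  have m5 : ∀ t ∈ T, h.b e' t = 0 := fun t ht => by rw [h.b_comm]; exact m1 t ht
  have m6 : ∀ t ∈ T, h.b f' t = 0 := fun t ht => by rw [h.b_comm]; exact m2 t ht
  have m7 : ∀ t ∈ T, h.b x' t = 0 := fun t ht => by rw [h.b_comm]; exact m3 t ht
  have m8 : ∀ t ∈ T, h.b y' t = 0 := fun t ht => by rw [h.b_comm]; exact m4 t ht
  rcases hq1 with ⟨q1, q2⟩ | ⟨q1, q2⟩ <;> rcases hq2 with ⟨q3, q4⟩ | ⟨q3, q4⟩
  · -- two hyperbolic planes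
    refine false_planes h hF hR hV hT hc (u := e' + f') (v := e' + x' + y') (u' := x' + y')
      (v' := x' + e' + f') (fun t ht => ⟨?_, ?_, ?_, ?_⟩) ?_ ?_ ?_ ?_ ?_ ?_ ?_ ?_ ?_ ?_ <;>
    simp only [h.q_add', map_add, LinearMap.add_apply, h.b_self, q1, q2, q3, q4, bef', bfe', bxy', byx',
      k1, k2, k3, k4, g5, g6, g7, g8] <;>
    first | decide | simp only [m1 t ht, m2 t ht, m3 t ht, m4 t ht, add_zero]
  · refine false_chain h hF hR hV hT hc
      (chain_of q1 q2 q3 q4 bef' bxy' k1 k2 k3 k4) (fun t ht => ⟨?_, ?_, m8 t ht, m7 t ht⟩)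
    · rw [map_add, LinearMap.add_apply, m5 t ht, m6 t ht, add_zero]
    · rw [map_add, LinearMap.add_apply, m5 t ht, m7 t ht, add_zero]
  · refine false_chain h hF hR hV hT hc
      (chain_of q3 q4 q1 q2 bxy' bef' g5 g7 g6 g8) (fun t ht => ⟨?_, ?_, m6 t ht, m5 t ht⟩)
    · rw [map_add, LinearMap.add_apply, m7 t ht, m8 t ht, add_zero]
    · rw [map_add, LinearMap.add_apply, m7 t ht, m5 t ht, add_zero]
  · exact false_planes h hF hR hV hT hc (fun t ht => ⟨m1 t ht, m2 t ht, m3 t ht, m4 t ht⟩) q1 q2 bef'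
      q3 q4 bxy' k1 k2 k3 k4

/-- all widths at least 5 -/
theorem false_of_card (n : ℕ) (hn : 5 ≤ n) : ∀ (G : Type u) [Group G] [Finite G] (Q : Subgroup G)
    (z : G) (h : Large Q z), Fus Q z → RR h → Nat.card h.V = 4 ^ n → False := by
  induction n, hn using Nat.le_induction with
  | base =>
    intro G _ _ Q z h hF hR hV
    exact false_ten h hF hR (by rw [hV]; norm_num)
  | succ n hn ih =>
    intro G _ _ Q z h hF hR hV
    have h1024 : 4 ^ 5 ≤ 4 ^ n := Nat.pow_le_pow_right (by norm_num) hn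
    obtain ⟨u, v, qu, qv, buv⟩ := exists_aniso h (by rw [hV, pow_succ]; omega)
    obtain ⟨G1, i1, i2, Q1, z1, h1, j1, hF1, hR1, hj1, q1, bb1, hP1⟩ := red_two h hF hR qu qv buv
    have c1 := card_two j1 hj1 buv hP1
    apply ih G1 Q1 z1 h1 hF1 hR1
    rw [hV, pow_succ] at c1
    omega

end kill

/-- **`|D̃| = 2` is impossible in width at least 5.** -/
theorem false_of_pair {G : Type*} [Group G] [Finite G] {Q A : Subgroup G} {z a : G} (p : Pair Q z A a)
    (hO : O2 p.lz) (hw : 2 ^ 11 ≤ Nat.card Q) (hD : Nat.card p.D = 2) : False := by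
  have hV : 1024 ≤ Nat.card p.lz.V := by
    have h1 := p.lz.card_eq
    omega
  have hfd := Dickson.finiteDim p.lz
  obtain ⟨m, hm⟩ := Dickson.even_finrank p.lz
  have hc : Nat.card p.lz.V = 4 ^ m := by
    rw [Module.natCard_eq_pow_finrank (K := ZMod 2) (V := p.lz.V), Nat.card_zmod, hm, pow_add,
      ← mul_pow]
    norm_num
  have hm5 : 5 ≤ m := by
    by_contra hcon
    have h1 : 4 ^ m ≤ 4 ^ 4 := Nat.pow_le_pow_right (by norm_num) (by omega)
    rw [← hc] at h1
    omega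
  refine false_of_card m hm5 G Q z p.lz ?_ ?_ hc
  · exact KOne.fus_of_trans p hD fun x hx hxx hx1 hxz =>
      exists_conj_G p hO hD (by omega) hx hxx hx1 hxz
  · intro u v qu qv
    have qu' : qf p.lz u ≠ 0 := by show p.lz.q u ≠ 0; rw [qu]; decide
    have qv' : qf p.lz v ≠ 0 := by show p.lz.q v ≠ 0; rw [qv]; decide
    have hmem : refl (qf p.lz) u qu' *
        refl (qf p.lz) v qv' ∈ p.H := by
      apply E_le_H p hO hD (by omega)
      apply (SixMinus.good_qf p.lz (by omega)).refl_mul_refl_mem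
      show p.lz.q v = p.lz.q u
      rw [qu, qv]
    obtain ⟨c, hcc⟩ := hmem
    refine ⟨c, fun x => ?_⟩
    have e : p.lz.act c x = refl (qf p.lz) u qu'
        (refl (qf p.lz) v qv' x) := by
      have := congrArg (fun g : p.lz.V ≃ₗ[ZMod 2] p.lz.V => g x) hcc
      exact this
    rw [e, SixMinus.refl_qf, SixMinus.refl_qf]
    rfl

end Cfsg.Agent.LargeExtra.TwoA
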