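import Cfsg.Agent.LargeExtra.KillPlus

/-!
# Elements of odd order in `C(z)` (helper71, after helper915): `C_G(ρ) / ⟨ρ⟩` is again large extraspecial
-/

set_option autoImplicit false

namespace Cfsg.Agent.LargeExtra.TwoAQuot

open Cfsg.Agent.Co2Type.Quad Cfsg.Agent.LargeExtra.Base Cfsg.Agent.LargeExtra.Local
open Cfsg.Agent.LargeExtra.KillSiegel

variable {G : Type*} [Group G] {Q : Subgroup G} {z ρ : G} {m : ℕ}

theorem pow_four (h : Large Q z) {x : G} (hx : x ∈ Q) : x ^ 4 = 1 := by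
  have e : x ^ 4 = x * x * (x * x) := by
    rw [pow_succ, pow_succ, pow_succ, pow_one, mul_assoc (x * x)]
  rw [e]
  rcases h.sq x hx with h1 | h1
  · rw [h1, one_mul]
  · rw [h1]; exact h.z_sq

/-- an element with `x ^ 4 = 1 = x ^ m`, `m` odd, is trivial -/
theorem eq_one_of_pow {H : Type*} [Group H] {x : H} (hm : Odd m) (h4 : x ^ 4 = 1) (h1 : x ^ m = 1) :
    x = 1 := by
  have h2 : orderOf x ∣ 4 := orderOf_dvd_of_pow_eq_one h4
  have h3 : orderOf x ∣ m := orderOf_dvd_of_pow_eq_one h1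
  have hc : Nat.Coprime 4 m := by
    rw [show (4 : ℕ) = 2 ^ 2 by norm_num]
    exact Nat.Coprime.pow_left 2 (Nat.coprime_two_left.2 hm)
  have h5 : orderOf x ∣ Nat.gcd 4 m := Nat.dvd_gcd h2 h3
  rw [hc] at h5
  exact orderOf_eq_one_iff.1 (Nat.dvd_one.1 h5)

theorem eq_one_of_odd (h : Large Q z) (hm : Odd m) {x : G} (hx : x ∈ Q) (h1 : x ^ m = 1) : x = 1 :=
  eq_one_of_pow hm (pow_four h hx) h1

/-- `x ∈ Q` commutes with `ρ` as soon as its image is fixed -/
theorem comm_of_fix (h : Large Q z) (hρz : ρ * z = z * ρ) (hm : Odd m) (hρ : ρ ^ m = 1) {x : G}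
    (hx : ρ * x * ρ⁻¹ = x ∨ ρ * x * ρ⁻¹ = x * z) : ρ * x = x * ρ := by
  rcases hx with h1 | h1
  · rw [mul_inv_eq_iff_eq_mul] at h1; exact h1
  · have hzz : ρ * z * ρ⁻¹ = z := by rw [hρz]; group
    have h2 : ρ * (ρ * x * ρ⁻¹) * ρ⁻¹ = x := by
      rw [h1]
      calc ρ * (x * z) * ρ⁻¹ = (ρ * x * ρ⁻¹) * (ρ * z * ρ⁻¹) := by group
        _ = x * (z * z) := by rw [h1, hzz]; group
        _ = x := by rw [h.z_sq, mul_one]
    have h3 : Commute (ρ * ρ) x := by
      have : ρ * ρ * x * (ρ * ρ)⁻¹ = x := by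
        calc ρ * ρ * x * (ρ * ρ)⁻¹ = ρ * (ρ * x * ρ⁻¹) * ρ⁻¹ := by group
          _ = x := h2
      rw [mul_inv_eq_iff_eq_mul] at this
      exact this
    obtain ⟨k, hk⟩ := hm
    have h4 : ρ = (ρ * ρ) ^ (k + 1) := by
      calc ρ = ρ ^ m * ρ := by rw [hρ, one_mul]
        _ = (ρ * ρ) ^ (k + 1) := by
          rw [← pow_succ, hk, ← pow_two, ← pow_mul]
          congr 1
    have h5 : Commute ((ρ * ρ) ^ (k + 1)) x := h3.pow_left _
    rw [← h4] at h5
    exact h5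

/-- `C_Q(ρ)` is large: some element of `C_Q(ρ)` does not commute with a given `x ∈ C_Q(ρ) ∖ ⟨z⟩` -/
theorem exists_cent (h : Large Q z) (hρz : ρ * z = z * ρ) (hm : Odd m) (hρm : ρ ^ m = 1) {x : G}
    (hx : x ∈ Q) (hxρ : ρ * x = x * ρ) (hx1 : x ≠ 1) (hxz : x ≠ z) :
    ∃ y ∈ Q, ρ * y = y * ρ ∧ y * x = x * y * z := by
  set ρ' : Subgroup.centralizer ({z} : Set G) := ⟨ρ, Subgroup.mem_centralizer_singleton_iff.2 hρz⟩
    with hρ'
  set f := h.act ρ' with hf
  have hfm : f ^ m = 1 := by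
    have h1 : ρ' ^ m = 1 := Subtype.ext hρm
    rw [hf, ← map_pow, h1, map_one]
  obtain ⟨y, hy, hyx⟩ := exists_not_comm h hx hx1 hxz
  have hfx : f (h.pr ⟨x, hx⟩) = h.pr ⟨x, hx⟩ := by
    apply Base.Pair.act_pr_coe
    show ρ * x * ρ⁻¹ = x
    rw [hxρ]; group
  have hb : h.b (h.pr ⟨y, hy⟩) (h.pr ⟨x, hx⟩) = 1 := (h.b_pr_one _ _).2 hyx
  have hfb : ∀ v w, h.b (f v) (f w) = h.b v w := fun v w => h.b_act ρ' v w
  set v := h.pr ⟨y, hy⟩ with hv
  have hbi : ∀ i : ℕ, h.b ((f ^ i) v) (h.pr ⟨x, hx⟩) = 1 := by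
    intro i
    induction i with
    | zero => exact hb
    | succ n ih =>
      rw [pow_succ']
      show h.b (f ((f ^ n) v)) (h.pr ⟨x, hx⟩) = 1
      rw [← hfx, hfb]
      exact ih
  set w := ∑ i ∈ Finset.range m, (f ^ i) v with hw
  have hfw : f w = w := by
    have e1 : f w = ∑ i ∈ Finset.range m, (f ^ (i + 1)) v := by
      rw [hw, map_sum]
      apply Finset.sum_congr rfl
      intro i _
      rw [pow_succ']
      rfl
    have e2 : ∑ i ∈ Finset.range (m + 1), (f ^ i) v = w + (f ^ m) v := by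
      rw [Finset.sum_range_succ]
    have e3 : ∑ i ∈ Finset.range (m + 1), (f ^ i) v
        = ∑ i ∈ Finset.range m, (f ^ (i + 1)) v + (f ^ 0) v := by
      rw [Finset.sum_range_succ']
    have e4 : w + v = f w + v := by
      rw [e1]
      calc w + v = w + (f ^ m) v := by rw [hfm]; rfl
        _ = ∑ i ∈ Finset.range m, (f ^ (i + 1)) v + (f ^ 0) v := by rw [← e2, e3]
        _ = _ := by rw [pow_zero]; rfl
    exact (add_right_cancel e4).symm
  have hbw : h.b w (h.pr ⟨x, hx⟩) = 1 := by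
    rw [hw, map_sum, LinearMap.sum_apply]
    rw [Finset.sum_congr rfl (fun i _ => hbi i)]
    rw [Finset.sum_const, Finset.card_range, nsmul_eq_mul, mul_one]
    obtain ⟨k, hk⟩ := hm
    rw [hk]
    push_cast
    rw [show (2 : ZMod 2) = 0 from rfl, zero_mul, zero_add]
  obtain ⟨y', hy'⟩ := h.pr_surjective w
  have h4 : ρ * (y' : G) = y' * ρ := by
    apply comm_of_fix h hρz hm hρm
    rw [← hy', h.act_pr, h.pr_eq_pr, h.conjQ_coe] at hfw
    exact hfw
  refine ⟨y', y'.2, h4, ?_⟩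
  rw [← hy'] at hbw
  exact (h.b_pr_one y' ⟨x, hx⟩).1 hbw

/-! ### the quotient `C_G(ρ) / ⟨ρ⟩` -/

/-- `ρ` as an element of its centraliser -/
def rho (ρ : G) : Subgroup.centralizer ({ρ} : Set G) :=
  ⟨ρ, Subgroup.mem_centralizer_singleton_iff.2 rfl⟩

/-- the subgroup `⟨ρ⟩` of `C_G(ρ)` -/
def R (ρ : G) : Subgroup (Subgroup.centralizer ({ρ} : Set G)) := Subgroup.zpowers (rho ρ)

theorem comm_rho (k : Subgroup.centralizer ({ρ} : Set G)) : k * rho ρ = rho ρ * k :=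
  Subtype.ext (Subgroup.mem_centralizer_singleton_iff.1 k.2)

theorem comm_R {r : Subgroup.centralizer ({ρ} : Set G)} (hr : r ∈ R ρ)
    (k : Subgroup.centralizer ({ρ} : Set G)) : k * r = r * k := by
  obtain ⟨i, rfl⟩ := Subgroup.mem_zpowers_iff.1 hr
  exact (Commute.zpow_right (comm_rho k : Commute k (rho ρ)) i).eq

instance : (R ρ).Normal := ⟨fun r hr k => by rw [comm_R hr, mul_inv_cancel_right]; exact hr⟩

theorem pow_R (hρ : ρ ^ m = 1) {r : Subgroup.centralizer ({ρ} : Set G)} (hr : r ∈ R ρ) :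
    r ^ m = 1 := by
  obtain ⟨i, rfl⟩ := Subgroup.mem_zpowers_iff.1 hr
  have h1 : rho ρ ^ m = 1 := Subtype.ext hρ
  rw [← zpow_natCast, ← zpow_mul, mul_comm, zpow_mul, zpow_natCast, h1, one_zpow]

/-- the quotient group -/
abbrev KB (ρ : G) : Type _ := Subgroup.centralizer ({ρ} : Set G) ⧸ R ρ

def mk (ρ : G) : Subgroup.centralizer ({ρ} : Set G) →* KB ρ := QuotientGroup.mk' (R ρ)

theorem mk_surjective : Function.Surjective (mk ρ) := QuotientGroup.mk'_surjective _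

theorem mk_eq_one {k : Subgroup.centralizer ({ρ} : Set G)} : mk ρ k = 1 ↔ k ∈ R ρ :=
  QuotientGroup.eq_one_iff k

/-- the image of `Q` -/
def QB (Q : Subgroup G) (ρ : G) : Subgroup (KB ρ) :=
  (Q.subgroupOf (Subgroup.centralizer ({ρ} : Set G))).map (mk ρ)

theorem mem_QB {x : KB ρ} : x ∈ QB Q ρ ↔
    ∃ k : Subgroup.centralizer ({ρ} : Set G), (k : G) ∈ Q ∧ mk ρ k = x := Iff.rfl

theorem one_of_mk (h : Large Q z) (hm : Odd m) (hρ : ρ ^ m = 1)
    {k : Subgroup.centralizer ({ρ} : Set G)} (hk : (k : G) ∈ Q) (h1 : mk ρ k = 1) : k = 1 := by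
  have h2 := pow_R hρ (mk_eq_one.1 h1)
  apply Subtype.ext
  apply eq_one_of_odd h hm hk
  rw [← SubmonoidClass.coe_pow, h2]; rfl

theorem eq_of_mk (h : Large Q z) (hm : Odd m) (hρ : ρ ^ m = 1)
    {k k' : Subgroup.centralizer ({ρ} : Set G)}
    (hk : (k : G) ∈ Q) (hk' : (k' : G) ∈ Q) (h1 : mk ρ k = mk ρ k') : k = k' := by
  have h2 : k'⁻¹ * k = 1 := by
    apply one_of_mk h hm hρ (Q.mul_mem (Q.inv_mem hk') hk)
    rw [map_mul, map_inv, h1, inv_mul_cancel]
  exact (inv_mul_eq_one.1 h2).symm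

/-- `z` as an element of `C_G(ρ)` -/
def zK (hρz : ρ * z = z * ρ) : Subgroup.centralizer ({ρ} : Set G) :=
  ⟨z, Subgroup.mem_centralizer_singleton_iff.2 hρz.symm⟩

/-- commuting in the quotient, one factor an involution -/
theorem comm_of_mk (hm : Odd m) (hρ : ρ ^ m = 1) {k a : Subgroup.centralizer ({ρ} : Set G)}
    (ha : a * a = 1) (h1 : mk ρ k * mk ρ a = mk ρ a * mk ρ k) : k * a = a * k := by
  set r := (a * k)⁻¹ * (k * a) with hr
  have hrR : r ∈ R ρ := by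
    rw [← mk_eq_one, hr, map_mul, map_inv, map_mul, map_mul, h1, inv_mul_cancel]
  have h2 : k * a = a * k * r := by rw [hr]; group
  have h4 : k * a * k⁻¹ = a * r := by rw [h2, mul_assoc a k r, comm_R hrR k]; group
  have h5 : (k * a * k⁻¹) * (k * a * k⁻¹) = 1 := by
    calc (k * a * k⁻¹) * (k * a * k⁻¹) = k * (a * a) * k⁻¹ := by group
      _ = 1 := by rw [ha]; group
  rw [h4] at h5
  have h6 : r * r = 1 := by
    calc r * r = (a * a) * (r * r) := by rw [ha, one_mul]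
      _ = a * (a * r) * r := by group
      _ = a * (r * a) * r := by rw [comm_R hrR a]
      _ = a * r * (a * r) := by group
      _ = 1 := h5
  have h7 : r = 1 := by
    apply eq_one_of_pow hm _ (pow_R hρ hrR)
    rw [pow_succ, pow_succ, pow_succ, pow_one, h6, one_mul, h6]
  rw [h2, h7, mul_one]

/-- **`C_G(ρ)/⟨ρ⟩` is large.** -/
theorem large (h : Large Q z) (hρz : ρ * z = z * ρ) (hm : Odd m) (hρ : ρ ^ m = 1)
    (hself : ∀ k, k * z = z * k → k * ρ = ρ * k →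
      (∀ x ∈ Q, ρ * x = x * ρ → k * x = x * k) → ∃ r ∈ R ρ, k * (r : G) ∈ Q) :
    Large (QB Q ρ) (mk ρ (zK hρz)) where
  z_mem := ⟨zK hρz, h.z_mem, rfl⟩
  z_ne := by
    intro h1
    apply h.z_ne
    exact congrArg Subtype.val (one_of_mk h hm hρ (k := zK hρz) h.z_mem h1)
  z_sq := by
    rw [← map_mul, show zK hρz * zK hρz = 1 from Subtype.ext h.z_sq, map_one]
  comm_z := by
    rintro _ ⟨k, hk, rfl⟩
    rw [← map_mul, ← map_mul]
    congr 1
    exact Subtype.ext (h.comm_z k hk)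
  conj_mem := by
    intro g hg
    obtain ⟨k, rfl⟩ := mk_surjective g
    rintro _ ⟨x, hx, rfl⟩
    have h1 : k * zK hρz = zK hρz * k := comm_of_mk hm hρ (Subtype.ext h.z_sq) hg
    have h2 : (k : G) * z = z * k := congrArg Subtype.val h1
    refine ⟨k * x * k⁻¹, h.conj_mem k h2 x hx, ?_⟩
    rw [map_mul, map_mul, map_inv]
  sq := by
    rintro _ ⟨x, hx, rfl⟩
    rcases h.sq x hx with h1 | h1
    · left
      rw [← map_mul, show x * x = 1 from Subtype.ext h1, map_one]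
    · right
      rw [← map_mul]
      congr 1
      exact Subtype.ext h1
  comm := by
    rintro _ ⟨x, hx, rfl⟩ _ ⟨y, hy, rfl⟩
    rcases h.comm x hx y hy with h1 | h1
    · left
      rw [← map_mul, ← map_mul]
      congr 1
      exact Subtype.ext h1
    · right
      rw [← map_mul, ← map_mul, ← map_mul]
      congr 1
      exact Subtype.ext h1
  cent := by
    rintro _ ⟨x, hx, rfl⟩ hc
    by_contra hcon
    push Not at hcon
    have hx1 : (x : G) ≠ 1 := fun h1 => hcon.1 (by rw [show x = 1 from Subtype.ext h1, map_one])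
    have hxz : (x : G) ≠ z := fun h1 => hcon.2 (by
      rw [show x = zK hρz from Subtype.ext h1])
    obtain ⟨y, hy, hρy, hyx⟩ := exists_cent h hρz hm hρ hx
      (Subgroup.mem_centralizer_singleton_iff.1 x.2).symm hx1 hxz
    set y' : Subgroup.centralizer ({ρ} : Set G) :=
      ⟨y, Subgroup.mem_centralizer_singleton_iff.2 hρy.symm⟩ with hy'
    have h1 := hc _ ⟨y', hy, rfl⟩
    rw [← map_mul, ← map_mul] at h1
    have h2 := eq_of_mk h hm hρ (Q.mul_mem hx hy) (Q.mul_mem hy hx) h1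
    have h4 : (x : G) * y = y * x := congrArg Subtype.val h2
    have hyx' : y * (x : G) = x * y * z := hyx
    rw [hyx'] at h4
    exact h.z_ne (mul_eq_left.1 h4.symm)
  self := by
    intro g hg hc
    obtain ⟨k, rfl⟩ := mk_surjective g
    have h1 : k * zK hρz = zK hρz * k := comm_of_mk hm hρ (Subtype.ext h.z_sq) hg
    have h2 : (k : G) * z = z * k := congrArg Subtype.val h1
    obtain ⟨r, hr, hkr⟩ := hself k h2 (Subgroup.mem_centralizer_singleton_iff.1 k.2) (by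
      intro x hx hρx
      set x' : Subgroup.centralizer ({ρ} : Set G) :=
        ⟨x, Subgroup.mem_centralizer_singleton_iff.2 hρx.symm⟩ with hx'
      have h4 := hc _ ⟨x', hx, rfl⟩
      rw [← mul_inv_eq_iff_eq_mul, ← map_mul, ← map_inv, ← map_mul] at h4
      have h5 := eq_of_mk h hm hρ (h.conj_mem k h2 x hx) hx h4
      have h6 : (k : G) * x * (k : G)⁻¹ = x := congrArg Subtype.val h5
      rw [mul_inv_eq_iff_eq_mul] at h6
      exact h6)
    refine ⟨k * r, hkr, ?_⟩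
    rw [map_mul, mk_eq_one.2 hr, mul_one]

/-! ### fusion -/

/-- every involution of `Q ∖ ⟨z⟩` gives a pair with `|D̃| = 2` -/
def Fus (Q : Subgroup G) (z : G) : Prop :=
  ∀ x : Q, (x : G) * x = 1 → (x : G) ≠ 1 → (x : G) ≠ z →
    ∃ A, ∃ p : Pair Q z A x, ∀ v ∈ p.D, v = 0 ∨ v = p.va

theorem fus (h : Large Q z) (hρz : ρ * z = z * ρ) (hm : Odd m) (hρ : ρ ^ m = 1)
    (hL : Large (QB Q ρ) (mk ρ (zK hρz))) (hfus : Fus Q z) : Fus (QB Q ρ) (mk ρ (zK hρz)) := by
  intro x hx hx1 hxz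
  obtain ⟨x, hxQ⟩ := x
  obtain ⟨k, hk, rfl⟩ := hxQ
  have hkQ : (k : G) ∈ Q := hk
  have hkk : k * k = 1 := one_of_mk h hm hρ (Q.mul_mem hkQ hkQ) (by rw [map_mul]; exact hx)
  have hk1 : (k : G) ≠ 1 := fun h1 => hx1 (by
    show mk ρ k = 1
    rw [show k = 1 from Subtype.ext h1, map_one])
  have hkz : (k : G) ≠ z := fun h1 => hxz (by
    show mk ρ k = mk ρ (zK hρz)
    rw [show k = zK hρz from Subtype.ext h1])
  have hkρ : ρ * (k : G) = k * ρ := (Subgroup.mem_centralizer_singleton_iff.1 k.2).symm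
  obtain ⟨A, p, hD⟩ := hfus ⟨k, hkQ⟩ (congrArg Subtype.val hkk) hk1 hkz
  have p0 : Pair Q z A (k : G) := p
  obtain ⟨w1, hw1, hρw1, hw1k⟩ := exists_cent h hρz hm hρ hkQ hkρ hk1 hkz
  obtain ⟨w2, hw2, hρw2, hw2z⟩ := exists_cent p0.la hkρ hm hρ p0.z_mem hρz h.z_ne (Ne.symm hkz)
  have hw2z' : w2 * z ≠ z * w2 := by
    rw [hw2z]
    intro h1
    exact p0.la.z_ne (mul_eq_left.1 h1)
  obtain ⟨c1, -⟩ := KillEta.y_conj p0 hw2 hw2z'
  have hconj : (w1 * w2) * z * (w1 * w2)⁻¹ = k := by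
    have e1 : w1 * z * w1⁻¹ = z := by rw [h.comm_z w1 hw1]; group
    have e2 : w1 * k * w1⁻¹ = k * z := by
      rw [hw1k, mul_assoc (k : G) w1 z, h.comm_z w1 hw1]; group
    calc (w1 * w2) * z * (w1 * w2)⁻¹ = w1 * (w2 * z * w2⁻¹) * w1⁻¹ := by group
      _ = (w1 * z * w1⁻¹) * (w1 * k * w1⁻¹) := by rw [c1]; group
      _ = z * (k * z) := by rw [e1, e2]
      _ = k := by
        rw [h.comm_z k hkQ, ← mul_assoc, h.z_sq, one_mul]
  set g : Subgroup.centralizer ({ρ} : Set G) := ⟨w1 * w2,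
    Subgroup.mem_centralizer_singleton_iff.2 (by
      rw [mul_assoc, ← hρw2, ← mul_assoc, ← hρw1, mul_assoc])⟩ with hg
  have hgk : mk ρ g * mk ρ (zK hρz) * (mk ρ g)⁻¹ = mk ρ k := by
    rw [← map_mul, ← map_inv, ← map_mul]
    congr 1
    exact Subtype.ext hconj
  have p' : Pair (QB Q ρ) (mk ρ (zK hρz))
      ((QB Q ρ).map (MulAut.conj (mk ρ g)).toMonoidHom) (mk ρ k) := by
    have := pair_of_conj hL (g := mk ρ g) (by rw [hgk]; exact ⟨k, hk, rfl⟩) (by rw [hgk]; exact hxz)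
    rwa [hgk] at this
  refine ⟨_, p', ?_⟩
  intro v hv
  obtain ⟨⟨y, hyQ⟩, hy, rfl⟩ := hv
  obtain ⟨t, ht, hty⟩ := hyQ
  obtain ⟨s0, hs0, hs0y⟩ := hy
  obtain ⟨n, hn, rfl⟩ := hs0
  have htQ : (t : G) ∈ Q := ht
  have hnQ : (n : G) ∈ Q := hn
  have hty' : mk ρ g * mk ρ n * (mk ρ g)⁻¹ = y := hs0y
  set s := g * n * g⁻¹ with hs
  have hsA : (s : G) ∈ A := KillEta.conj_mem_of p0 hconj hnQ
  have hsm : mk ρ s = mk ρ t := by
    rw [hty, ← hty', hs, map_mul, map_mul, map_inv]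
  set r := s⁻¹ * t with hr
  have hrR : r ∈ R ρ := by rw [← mk_eq_one, hr, map_mul, map_inv, hsm, inv_mul_cancel]
  have hmsr : t = s * r := by rw [hr]; group
  have hr4 : r ^ 4 = 1 := by
    have h4 : t ^ 4 = 1 := Subtype.ext (by rw [SubmonoidClass.coe_pow]; exact pow_four h htQ)
    have h5 : s ^ 4 = 1 := Subtype.ext (by rw [SubmonoidClass.coe_pow]; exact pow_four p0.la hsA)
    have c : Commute s r := comm_R hrR s
    rw [hmsr, c.mul_pow, h5, one_mul] at h4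
    exact h4
  have hr1 : r = 1 := eq_one_of_pow hm hr4 (pow_R hρ hrR)
  have hms : t = s := by rw [hmsr, hr1, mul_one]
  have hmA : (t : G) ∈ A := by rw [hms]; exact hsA
  have hpr : ∀ (hyQ : y ∈ QB Q ρ), p'.lz.pr ⟨y, hyQ⟩ = 0 ∨ p'.lz.pr ⟨y, hyQ⟩ = p'.va := by
    intro hyQ
    rcases KillCommute.mem_D4 p0 hD htQ hmA with h1 | h1 | h1 | h1
    · left
      apply p'.lz.pr_eq_zero.2
      left
      show y = 1
      rw [← hty, show t = 1 from Subtype.ext h1, map_one]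
    · left
      apply p'.lz.pr_eq_zero.2
      right
      show y = mk ρ (zK hρz)
      rw [← hty, show t = zK hρz from Subtype.ext h1]
    · right
      apply p'.lz.pr_eq_pr.2
      left
      show y = mk ρ k
      rw [← hty, show t = k from Subtype.ext h1]
    · right
      apply p'.lz.pr_eq_pr.2
      right
      show y = mk ρ k * mk ρ (zK hρz)
      rw [← hty, ← map_mul, show t = k * zK hρz from Subtype.ext h1]
  exact hpr _

end Cfsg.Agent.LargeExtra.TwoAQuot
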